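import Groth.Agent.LocCoh.GorensteinCriteria
import Groth.Agent.SegreDim.GorEquiv
import Groth.Agent.CAlgH3.ProjDim
import Groth.Agent.CAlgH3.RegularHom
import Mathlib.RingTheory.RegularLocalRing.Polynomial
import Mathlib.RingTheory.Localization.Ideal
import Mathlib.RingTheory.Localization.LocalizationLocalization

/-! Gorenstein localisations: subrings which become regular after inverting elements; quotients. -/

universe u

namespace Groth.Agent.GrSectLib

local notation "Gor" => _root_.LocCoh.IsGorensteinLocalRing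

theorem gorenstein_of_regular (A : Type u) [CommRing A] [IsRegularLocalRing A] : Gor A := by
  refine Groth.Agent.LocCoh.gorenstein_of_forall_ext
    ((IsLocalRing.maximalIdeal A).spanFinrank + 1) fun i hi => ?_
  have := CAlgH3.pd_all (R := A) (A ⧸ IsLocalRing.maximalIdeal A)
  exact CategoryTheory.HasProjectiveDimensionLT.subsingleton
    (ModuleCat.of A (A ⧸ IsLocalRing.maximalIdeal A)) _ _ hi _

/-- If `R ⊆ S` agree after inverting a submonoid missing `p` and `S` is regular, then `R_p` is Gorenstein. -/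
theorem gorenstein_of_dense {R S : Type u} [CommRing R] [CommRing S] [IsDomain S] [IsRegularRing S]
    (ι : R →+* S) (hι : Function.Injective ι) (M : Submonoid R) (hM0 : ∀ m ∈ M, m ≠ 0)
    (hM : ∀ s : S, ∃ m ∈ M, ι m * s ∈ ι.range) (p : Ideal R) [p.IsPrime] (hp : ∀ m ∈ M, m ∉ p) :
    Gor (Localization.AtPrime p) := by
  have hdom : IsDomain R := hι.isDomain ι
  let N : Submonoid S := M.map ι
  let S' := Localization N
  have h0 : ∀ n ∈ N, n ≠ 0 := by
    rintro _ ⟨m, hm, rfl⟩ h
    exact hM0 m hm (hι (by rw [h, map_zero]))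
  have hinjS : Function.Injective (algebraMap S S') :=
    IsLocalization.injective S' fun n hn => mem_nonZeroDivisors_of_ne_zero (h0 n hn)
  let _ : Algebra R S' := ((algebraMap S S').comp ι).toAlgebra
  have hloc : IsLocalization M S' :=
    { map_units := fun m => IsLocalization.map_units S' (⟨ι m, m, m.2, rfl⟩ : N)
      surj := fun z => by
        obtain ⟨⟨s, n, m, hm, rfl⟩, hz⟩ := IsLocalization.surj N z
        obtain ⟨m', hm', r, hr⟩ := hM s
        refine ⟨(r, ⟨m * m', mul_mem hm hm'⟩), ?_⟩
        change z * algebraMap S S' (ι (m * m')) = algebraMap S S' (ι r)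
        rw [map_mul, map_mul, ← mul_assoc, hz, hr, map_mul, mul_comm]
      exists_of_eq := fun {x y} h => ⟨1, by rw [hι (hinjS h)]⟩ }
  let P : Ideal S' := p.map (algebraMap R S')
  have hdisj : Disjoint (M : Set R) (p : Set R) := Set.disjoint_left.mpr hp
  have hP : P.IsPrime := IsLocalization.isPrime_of_isPrime_disjoint M S' p inferInstance hdisj
  have hcomap : P.comap (algebraMap R S') = p :=
    IsLocalization.under_map_of_isPrime_disjoint M S' inferInstance hdisj
  have h1 : IsLocalization.AtPrime (Localization.AtPrime P) p := by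
    simpa only [hcomap] using IsLocalization.isLocalization_isLocalization_atPrime_isLocalization M
      (Localization.AtPrime P) P
  have h2 : IsLocalization.AtPrime (Localization.AtPrime P) (P.comap (algebraMap S S')) :=
    IsLocalization.isLocalization_isLocalization_atPrime_isLocalization N (Localization.AtPrime P) P
  have : IsRegularLocalRing (Localization.AtPrime P) :=
    IsRegularLocalRing.of_ringEquiv (IsLocalization.algEquiv (P.comap (algebraMap S S')).primeCompl
      (Localization.AtPrime (P.comap (algebraMap S S'))) (Localization.AtPrime P)).toRingEquiv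
  have := gorenstein_of_regular (Localization.AtPrime P)
  exact Groth.Agent.SegreDim.gorensteinLocal_of_ringEquiv
    (IsLocalization.algEquiv p.primeCompl (Localization.AtPrime P) (Localization.AtPrime p)).toRingEquiv

/-- The local Gorenstein property at a prime containing a regular element passes to the quotient. -/
theorem gorenstein_atPrime_quotient {R B : Type u} [CommRing R] [IsDomain R] [IsNoetherianRing R] [CommRing B]
    (f : R →+* B) (hf : Function.Surjective f) (t : R) (ht : t ≠ 0) (hker : RingHom.ker f = Ideal.span {t})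
    (p : Ideal R) [p.IsPrime] (htp : t ∈ p) :
    ∃ (q : Ideal B) (_ : q.IsPrime), q.comap f = p ∧
      (Gor (Localization.AtPrime p) ↔ Gor (Localization.AtPrime q)) := by
  have hle : RingHom.ker f ≤ p := by rw [hker, Ideal.span_le, Set.singleton_subset_iff]; exact htp
  have hq : (p.map f).IsPrime := Ideal.map_isPrime_of_surjective hf hle
  have hcomap : (p.map f).comap f = p := by
    rw [Ideal.comap_map_of_surjective' f hf]; exact sup_eq_left.mpr hle
  refine ⟨p.map f, hq, hcomap, ?_⟩
  let A := Localization.AtPrime p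
  let t' : A := algebraMap R A t
  have hinj : Function.Injective (algebraMap R A) :=
    IsLocalization.injective A p.primeCompl_le_nonZeroDivisors
  have hreg : IsSMulRegular A t' := by
    have : IsDomain A := IsLocalization.isDomain_localization p.primeCompl_le_nonZeroDivisors
    exact IsSMulRegular.of_ne_zero fun h => ht (hinj (h.trans (map_zero _).symm))
  have hmem : t' ∈ IsLocalRing.maximalIdeal A := (IsLocalization.AtPrime.to_map_mem_maximal_iff A p t).mpr htp
  rw [Groth.Agent.LocCoh.gorenstein_quotient_iff hmem hreg]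
  let g : A →+* A ⧸ Ideal.span {t'} := Ideal.Quotient.mk _
  have hg0 : RingHom.ker f ≤ RingHom.ker (g.comp (algebraMap R A)) := fun x hx => by
    rw [hker, Ideal.mem_span_singleton] at hx
    obtain ⟨c, rfl⟩ := hx
    rw [RingHom.mem_ker, RingHom.comp_apply, map_mul, Ideal.Quotient.eq_zero_iff_mem]
    exact Ideal.mul_mem_right _ _ (Ideal.mem_span_singleton_self _)
  let e : B →+* A ⧸ Ideal.span {t'} := f.liftOfSurjective hf ⟨g.comp (algebraMap R A), hg0⟩
  let _ : Algebra B (A ⧸ Ideal.span {t'}) := e.toAlgebra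
  have hloc : IsLocalization (p.map f).primeCompl (A ⧸ Ideal.span {t'}) := by
    have h1 : IsLocalization (p.primeCompl.map f) (A ⧸ Ideal.span {t'}) :=
      IsLocalization.of_surjective (S := A) p.primeCompl f hf g Ideal.Quotient.mk_surjective
        (RingHom.ext fun x => (f.liftOfSurjective_comp_apply hf ⟨g.comp (algebraMap R A), hg0⟩ x).symm)
        (by rw [Ideal.mk_ker, hker, Ideal.map_span, Set.image_singleton])
    have hM : p.primeCompl.map f = (p.map f).primeCompl := by
      ext b
      obtain ⟨a, rfl⟩ := hf b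
      have : f a ∈ p.map f ↔ a ∈ p := by rw [← Ideal.mem_comap, hcomap]
      constructor
      · rintro ⟨c, hc, hca⟩ h
        refine hc ?_
        show c ∈ p
        rw [← hcomap, Ideal.mem_comap, hca]
        exact h
      · exact fun h => ⟨a, fun ha => h (this.mpr ha), rfl⟩
    rwa [hM] at h1
  let eB := (IsLocalization.algEquiv (p.map f).primeCompl (Localization.AtPrime (p.map f))
    (A ⧸ Ideal.span {t'})).toRingEquiv
  exact ⟨fun h => @Groth.Agent.SegreDim.gorensteinLocal_of_ringEquiv _ _ _ _ eB.symm h,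
    fun h => @Groth.Agent.SegreDim.gorensteinLocal_of_ringEquiv _ _ _ _ eB h⟩

/-- Gorenstein at a maximal ideal primary to a principal ideal: a line of socle elements. -/
theorem gorenstein_atPrime_iff_socle {B : Type u} [CommRing B] [IsDomain B] [IsNoetherianRing B] (x : B)
    (hx0 : x ≠ 0) (q : Ideal B) [hqm : q.IsMaximal] (hxq : x ∈ q) (hnil : q ≤ (Ideal.span {x}).radical) :
    Gor (Localization.AtPrime q) ↔ ∃ e : B, e ∉ Ideal.span {x} ∧ (∀ a ∈ q, a * e ∈ Ideal.span {x}) ∧
      ∀ z : B, (∀ a ∈ q, a * z ∈ Ideal.span {x}) → ∃ r : B, r * e - z ∈ Ideal.span {x} := by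
  obtain ⟨q', hq', hcomap, hiff⟩ := gorenstein_atPrime_quotient (Ideal.Quotient.mk (Ideal.span {x}))
    Ideal.Quotient.mk_surjective x hx0 Ideal.mk_ker q hxq
  rw [hiff]
  let Q := B ⧸ Ideal.span {x}
  have hxle : Ideal.span {x} ≤ q := by rwa [Ideal.span_le, Set.singleton_subset_iff]
  have : Nontrivial Q := Ideal.Quotient.nontrivial_iff.mpr (ne_top_of_le_ne_top hqm.ne_top hxle)
  have hnilp : ∀ z ∈ q, IsNilpotent (Ideal.Quotient.mk (Ideal.span {x}) z) := fun z hz => by
    obtain ⟨n, hn⟩ := hnil hz
    exact ⟨n, by rw [← map_pow, Ideal.Quotient.eq_zero_iff_mem]; exact hn⟩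
  have hq'max : q'.IsMaximal := by
    have h : (q'.comap (Ideal.Quotient.mk (Ideal.span {x}))).IsMaximal := by rw [hcomap]; exact hqm
    rw [← Ideal.map_comap_of_surjective _ Ideal.Quotient.mk_surjective q', hcomap]
    exact Ideal.IsMaximal.map_of_surjective_of_ker_le Ideal.Quotient.mk_surjective (by rw [Ideal.mk_ker]; exact hxle)
  have huniq : ∀ P : Ideal Q, P.IsMaximal → P = q' := fun P hP => (hq'max.eq_of_le hP.ne_top fun a ha => by
    obtain ⟨z, rfl⟩ := Ideal.Quotient.mk_surjective a
    obtain ⟨n, hn⟩ := hnilp z (by rw [← hcomap]; exact ha)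
    exact hP.isPrime.mem_of_pow_mem n (by rw [hn]; exact zero_mem _)).symm
  have : IsLocalRing Q := .of_unique_max_ideal ⟨q', hq'max, huniq⟩
  have heq : q' = IsLocalRing.maximalIdeal Q := (huniq _ (IsLocalRing.maximalIdeal.isMaximal Q)).symm
  have hmem : ∀ z, Ideal.Quotient.mk (Ideal.span {x}) z ∈ IsLocalRing.maximalIdeal Q ↔ z ∈ q := fun z => by
    rw [← heq, ← hcomap, Ideal.mem_comap]
  subst heq
  let eA : Q ≃+* Localization.AtPrime (IsLocalRing.maximalIdeal Q) :=
    (IsLocalization.atUnits _ (IsLocalRing.maximalIdeal Q).primeCompl (fun a ha => by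
      exact IsLocalRing.notMem_maximalIdeal.mp ha)).toRingEquiv
  have hG : Gor (Localization.AtPrime (IsLocalRing.maximalIdeal Q)) ↔ Gor Q :=
    ⟨fun h => @Groth.Agent.SegreDim.gorensteinLocal_of_ringEquiv _ _ _ _ eA.symm h,
      fun h => @Groth.Agent.SegreDim.gorensteinLocal_of_ringEquiv _ _ _ _ eA h⟩
  rw [hG]
  have hdim : ringKrullDim Q = (0 : ℕ) := by
    have hdim' : Ring.KrullDimLE 0 Q := by
      rw [Ring.krullDimLE_zero_iff]
      intro P hP
      have hle : IsLocalRing.maximalIdeal Q ≤ P := fun a ha => by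
        obtain ⟨z, rfl⟩ := Ideal.Quotient.mk_surjective a
        obtain ⟨n, hn⟩ := hnilp z ((hmem z).mp ha)
        exact hP.mem_of_pow_mem n (by rw [hn]; exact zero_mem _)
      have := (IsLocalRing.maximalIdeal.isMaximal _).eq_of_le hP.ne_top hle
      exact this ▸ IsLocalRing.maximalIdeal.isMaximal _
    exact_mod_cast ringKrullDimZero_iff_ringKrullDim_eq_zero.mp hdim'
  have := Groth.Agent.LocCoh.isCohenMacaulay_of_subsingleton_H hdim (fun j hj => absurd hj (by omega))
  rw [Groth.Agent.LocCoh.gorenstein_iff_socle hdim, Groth.Agent.LocCoh.nonempty_socle_iff (n := 0) (xs := ([] : List Q)) rfl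
    (fun _ h => absurd h List.not_mem_nil) (RingTheory.Sequence.IsWeaklyRegular.nil _ _)
    (fun a ha => by
      obtain ⟨z, rfl⟩ := Ideal.Quotient.mk_surjective a
      obtain ⟨n, hn⟩ := hnilp z ((hmem z).mp ha)
      exact ⟨n, by rw [hn]; exact zero_mem _⟩)]
  simp only [Groth.Agent.LocCoh.IsSocleLine, Ideal.ofList_nil, bot_sup_eq, Ideal.mem_bot]
  have hsoc : ∀ z : B, (∀ a ∈ IsLocalRing.maximalIdeal Q, a * Ideal.Quotient.mk (Ideal.span {x}) z = 0) ↔
      ∀ a ∈ q, a * z ∈ Ideal.span {x} := fun z => by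
    constructor
    · intro h a ha
      rw [← Ideal.Quotient.eq_zero_iff_mem, map_mul]
      exact h _ ((hmem a).mpr ha)
    · intro h a ha
      obtain ⟨w, rfl⟩ := Ideal.Quotient.mk_surjective a
      rw [← map_mul, Ideal.Quotient.eq_zero_iff_mem]
      exact h w ((hmem w).mp ha)
  constructor
  · rintro ⟨e, he0, he, hline⟩
    obtain ⟨e, rfl⟩ := Ideal.Quotient.mk_surjective e
    refine ⟨e, fun h => he0 (Ideal.Quotient.eq_zero_iff_mem.mpr h), (hsoc e).mp he, fun z hz => ?_⟩
    obtain ⟨r, hr⟩ := Ideal.mem_span_singleton'.mp (hline _ ((hsoc z).mpr hz))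
    obtain ⟨r, rfl⟩ := Ideal.Quotient.mk_surjective r
    exact ⟨r, Ideal.Quotient.eq.mp (by rw [map_mul]; exact hr)⟩
  · rintro ⟨e, he0, he, hline⟩
    refine ⟨Ideal.Quotient.mk _ e, fun h => he0 (Ideal.Quotient.eq_zero_iff_mem.mp h), (hsoc e).mpr he,
      fun z hz => ?_⟩
    obtain ⟨z, rfl⟩ := Ideal.Quotient.mk_surjective z
    obtain ⟨r, hr⟩ := hline z ((hsoc z).mp hz)
    exact Ideal.mem_span_singleton'.mpr ⟨Ideal.Quotient.mk _ r, by rw [← map_mul]; exact Ideal.Quotient.eq.mpr hr⟩

end Groth.Agent.GrSectLib
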