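import Groth.Prelude.Def_W4c6gradedringsgwSect
import Groth.Agent.FF.Gaps
import Mathlib.Algebra.MonoidAlgebra.Basic
import Mathlib.RingTheory.Ideal.Quotient.Operations

/-!
# The section ring of a point of a curve modulo its degree one element
-/

set_option autoImplicit false

universe u

namespace Groth.Agent.GrSectLib

open WithZero FunFld W4c6gradedringsgw Groth.Agent.FF Polynomial
open scoped Classical

variable {k K : Type u} [Field k] [Field K] [Algebra k K] [IsAlgClosed k]

local notation "R[" P "]" => sectRing (Finsupp.single P 1 : FunFld.Divisor _ _)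

theorem zsmul_single (P : Place k K) (n : ℤ) :
    n • (Finsupp.single P 1 : Divisor k K) = Finsupp.single P n := by
  rw [Finsupp.smul_single, smul_eq_mul, mul_one]

theorem mem_sectRing_iff {P : Place k K} {p : K[X]} :
    p ∈ R[P] ↔ ∀ n : ℕ, p.coeff n ∈ L (Finsupp.single P (n : ℤ)) := by
  change (∀ n : ℕ, p.coeff n ∈ L ((n : ℤ) • (Finsupp.single P 1 : Divisor k K))) ↔ _
  simp only [zsmul_single]

theorem monomial_mem {P : Place k K} {n : ℕ} {f : K} (hf : f ∈ L (Finsupp.single P (n : ℤ))) :
    Polynomial.monomial n f ∈ R[P] := by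
  refine mem_sectRing_iff.mpr fun m => ?_
  rw [coeff_monomial]
  split_ifs with h
  · subst h; exact hf
  · exact zero_mem _

section

variable (hK : IsFunctionField k K) (P : Place k K)
include hK

theorem mem_L_zero {x : K} (hx : x ∈ L (Finsupp.single P (0 : ℤ))) : ∃ c : k, x = algebraMap k K c := by
  rw [Finsupp.single_zero, L_zero_eq hK, Submodule.mem_span_singleton] at hx
  obtain ⟨c, rfl⟩ := hx
  exact ⟨c, by rw [Algebra.smul_def, mul_one]⟩

theorem mem_poleOrders {n : ℕ} : n ∈ poleOrders P ↔ IsPoleNum P n := by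
  change ell ((n : ℤ) • (Finsupp.single P 1 : Divisor k K)) =
    ell (((n : ℤ) - 1) • (Finsupp.single P 1 : Divisor k K)) + 1 ↔ _
  rw [zsmul_single, zsmul_single]
  cases n with
  | zero =>
    rw [Nat.cast_zero, Finsupp.single_zero, (finrank_L_zero hK).2,
      ell_eq_zero_of_deg_neg hK (D := Finsupp.single P (0 - 1 : ℤ)) (by rw [deg_single, deg_eq_one hK]; decide)]
    exact iff_of_true rfl (isPoleNum_iff_exists.mpr ⟨1, by simp [Finsupp.single_zero, mem_L], by simp⟩)
  | succ m =>
    rw [show ((m + 1 : ℕ) : ℤ) - 1 = (m : ℤ) by push_cast; ring, ell_single_succ hK]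
    split_ifs with h <;> simp [h]

theorem zero_mem_poleOrders : 0 ∈ poleOrders P :=
  (mem_poleOrders hK P).mpr (isPoleNum_iff_exists.mpr ⟨1, by simp [Finsupp.single_zero, mem_L], by simp⟩)

theorem add_mem_poleOrders {a b : ℕ} (ha : a ∈ poleOrders P) (hb : b ∈ poleOrders P) : a + b ∈ poleOrders P :=
  (mem_poleOrders hK P).mpr (((mem_poleOrders hK P).mp ha).add ((mem_poleOrders hK P).mp hb))

theorem mem_closure_poleOrders {n : ℕ} : n ∈ AddSubmonoid.closure (poleOrders P) ↔ n ∈ poleOrders P := by
  refine ⟨fun h => ?_, fun h => AddSubmonoid.subset_closure h⟩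
  induction h using AddSubmonoid.closure_induction with
  | mem x hx => exact hx
  | zero => exact zero_mem_poleOrders hK P
  | add x y _ _ hx hy => exact add_mem_poleOrders hK P hx hy

theorem one_not_mem_poleOrders (hg : 1 ≤ genus k K) : 1 ∉ poleOrders P := by
  intro h
  rw [mem_poleOrders hK] at h
  have hall : ∀ m, IsPoleNum P m := by
    intro m
    induction m with
    | zero => exact (mem_poleOrders hK P).mp (zero_mem_poleOrders hK P)
    | succ m ih => exact ih.add h
  have h1 := ell_single_eq hK P (2 * genus k K)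
  rw [Finset.filter_false_of_mem (fun m _ => not_not_intro (hall m)), Finset.card_empty, add_zero] at h1
  have h2 := ell_eq_of_deg_large hK (D := Finsupp.single P ((2 * genus k K : ℕ) : ℤ)) (by
    rw [deg_single, deg_eq_one hK]; push_cast; omega)
  rw [deg_single, deg_eq_one hK, h1] at h2
  push_cast at h2
  omega

theorem mem_poleOrders_of_two_genus_le {n : ℕ} (hn : 2 * genus k K ≤ n) : n ∈ poleOrders P := by
  rw [mem_poleOrders hK]
  cases n with
  | zero => exact (mem_poleOrders hK P).mp (zero_mem_poleOrders hK P)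
  | succ m =>
    by_contra h
    have h1 := ell_single_succ hK P m
    rw [if_neg h, add_zero] at h1
    have h2 := ell_eq_of_deg_large hK (D := Finsupp.single P ((m + 1 : ℕ) : ℤ)) (by
      rw [deg_single, deg_eq_one hK]; push_cast; omega)
    have h3 := ell_eq_of_deg_large hK (D := Finsupp.single P (m : ℤ)) (by
      rw [deg_single, deg_eq_one hK]; push_cast; omega)
    rw [deg_single, deg_eq_one hK] at h2 h3
    push_cast at h1 h2 h3
    omega

theorem eq_const_of_mem_L_one (hg : 1 ≤ genus k K) {x : K} (hx : x ∈ L (Finsupp.single P (1 : ℤ))) :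
    ∃ c : k, x = algebraMap k K c := by
  have h := mt (mem_poleOrders hK P).mpr (one_not_mem_poleOrders hK P hg)
  rw [IsPoleNum, not_not] at h
  push_cast at h
  exact mem_L_zero hK P (by rw [h] at hx; simpa using hx)

/-! ### Leading coefficients -/

theorem exists_symbol {s : K} (hs : P.1 s = exp (-1 : ℤ)) (p : R[P]) (n : ℕ) :
    ∃ c : k, P.1 ((p : K[X]).coeff n * s ^ n - algebraMap k K c) < 1 := by
  refine exists_const_near hK P ?_
  have h := mem_sectRing_iff.mp p.2 n P
  rw [Finsupp.single_eq_same] at h
  rw [map_mul, map_pow, hs, ← exp_nsmul]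
  refine (mul_le_mul' h le_rfl).trans ?_
  rw [← exp_add, ← exp_zero, exp_le_exp]
  simp

omit hK in
theorem symbol_unique {x : K} {c c' : k} (h : P.1 (x - algebraMap k K c) < 1)
    (h' : P.1 (x - algebraMap k K c') < 1) : c = c' := by
  by_contra hne
  have h2 : P.1 (algebraMap k K (c - c')) < 1 := by
    rw [show algebraMap k K (c - c') = (x - algebraMap k K c') - (x - algebraMap k K c) by
      rw [map_sub]; ring]
    exact (P.1.map_sub _ _).trans_lt (max_lt h' h)
  rw [val_algebraMap P (sub_ne_zero.mpr hne)] at h2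
  exact lt_irrefl _ h2

/-- The reduction to the semigroup algebra, inside `k[X]`. -/
theorem exists_reduction {s : K} (hs : P.1 s = exp (-1 : ℤ)) :
    ∃ Φ : R[P] →ₐ[k] k[X], ∀ (p : R[P]) (n : ℕ),
      P.1 ((p : K[X]).coeff n * s ^ n - algebraMap k K ((Φ p).coeff n)) < 1 := by
  classical
  choose c hc using fun (p : R[P]) (n : ℕ) => exists_symbol hK P hs p n
  let φ : R[P] → k[X] := fun p => ∑ n ∈ (p : K[X]).support, Polynomial.monomial n (c p n)
  have hφ : ∀ p n, (φ p).coeff n = c p n := fun p n => by
    simp only [φ, finsetSum_coeff, coeff_monomial, Finset.sum_ite_eq']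
    split_ifs with h
    · rfl
    · refine (symbol_unique P (hc p n) ?_).symm
      rw [notMem_support_iff.mp h]; simp
  have hspec : ∀ (p : R[P]) (n : ℕ), P.1 ((p : K[X]).coeff n * s ^ n - algebraMap k K ((φ p).coeff n)) < 1 :=
    fun p n => by rw [hφ]; exact hc p n
  have huniq : ∀ (p : R[P]) (q : k[X]),
      (∀ n, P.1 ((p : K[X]).coeff n * s ^ n - algebraMap k K (q.coeff n)) < 1) → φ p = q :=
    fun p q h => Polynomial.ext fun n => symbol_unique P (hspec p n) (h n)
  have hadd : ∀ p q, φ (p + q) = φ p + φ q := fun p q => huniq _ _ fun n => by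
    rw [Subalgebra.coe_add, coeff_add, coeff_add, map_add, add_mul, add_sub_add_comm]
    exact (P.1.map_add _ _).trans_lt (max_lt (hspec p n) (hspec q n))
  have hmul : ∀ p q, φ (p * q) = φ p * φ q := fun p q => huniq _ _ fun n => by
    rw [Subalgebra.coe_mul, coeff_mul, coeff_mul, map_sum, Finset.sum_mul, ← Finset.sum_sub_distrib]
    refine Valuation.map_sum_lt _ one_ne_zero fun x hx => ?_
    rw [Finset.mem_antidiagonal] at hx
    rw [← hx, pow_add, map_mul, mul_mul_mul_comm]
    have hle : P.1 ((p : K[X]).coeff x.1 * s ^ x.1) ≤ 1 := by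
      have := (P.1.map_add ((p : K[X]).coeff x.1 * s ^ x.1 - algebraMap k K ((φ p).coeff x.1))
        (algebraMap k K ((φ p).coeff x.1))).trans (max_le (hspec p x.1).le (P.2.1 _))
      rwa [sub_add_cancel] at this
    rw [show ∀ a b a' b' : K, a * b - a' * b' = a * (b - b') + b' * (a - a') from fun a b a' b' => by ring]
    refine (P.1.map_add _ _).trans_lt (max_lt ?_ ?_)
    · rw [map_mul]
      exact (mul_le_mul' hle le_rfl).trans_lt (by rw [one_mul]; exact hspec q x.2)
    · rw [map_mul]
      exact (mul_le_mul' (P.2.1 _) le_rfl).trans_lt (by rw [one_mul]; exact hspec p x.1)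
  have halg : ∀ a : k, φ (algebraMap k R[P] a) = algebraMap k k[X] a := fun a => huniq _ _ fun n => by
    rw [Subalgebra.coe_algebraMap, Polynomial.algebraMap_apply, Polynomial.algebraMap_apply, coeff_C, coeff_C]
    split_ifs with h
    · subst h; simp
    · simp
  have hone : φ 1 = 1 := by simpa using halg 1
  have hzero : φ 0 = 0 := by simpa using halg 0
  exact ⟨{ toFun := φ, map_one' := hone, map_mul' := hmul, map_zero' := hzero, map_add' := hadd,
           commutes' := halg }, hspec⟩

variable {s : K} (hs : P.1 s = exp (-1 : ℤ)) {Φ : R[P] →ₐ[k] k[X]}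
  (hΦ : ∀ (p : R[P]) (n : ℕ), P.1 ((p : K[X]).coeff n * s ^ n - algebraMap k K ((Φ p).coeff n)) < 1)

include hΦ hs

theorem mem_poleOrders_of_coeff_ne_zero {p : R[P]} {n : ℕ} (h : (Φ p).coeff n ≠ 0) : n ∈ poleOrders P := by
  rw [mem_poleOrders hK, isPoleNum_iff_exists]
  refine ⟨(p : K[X]).coeff n, mem_sectRing_iff.mp p.2 n, ?_⟩
  have h1 : P.1 ((p : K[X]).coeff n * s ^ n) = 1 := by
    rw [← sub_add_cancel ((p : K[X]).coeff n * s ^ n) (algebraMap k K ((Φ p).coeff n)),
      Valuation.map_add_eq_of_lt_right _ (by rw [val_algebraMap P h]; exact hΦ p n), val_algebraMap P h]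
  rw [map_mul, map_pow, hs, ← exp_nsmul, mul_eq_one_iff_eq_inv₀ exp_ne_zero, ← exp_neg] at h1
  simpa using h1

/-- Lifts of the monomials. -/
theorem exists_monomial_lift {n : ℕ} (hn : n ∈ poleOrders P) :
    ∃ f, ∃ hf : f ∈ L (Finsupp.single P (n : ℤ)),
      Φ ⟨Polynomial.monomial n f, monomial_mem hf⟩ = Polynomial.monomial n 1 := by
  classical
  obtain ⟨f, hf, hv⟩ := isPoleNum_iff_exists.mp ((mem_poleOrders hK P).mp hn)
  set p : R[P] := ⟨Polynomial.monomial n f, monomial_mem hf⟩
  set c := (Φ p).coeff n
  have hc : c ≠ 0 := by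
    intro hc
    have h := hΦ p n
    rw [show (Φ p).coeff n = 0 from hc, map_zero, sub_zero, map_mul, map_pow, hs, ← exp_nsmul,
      show (p : K[X]).coeff n = f from coeff_monomial_same n f, hv, ← exp_add] at h
    simp at h
  refine ⟨c⁻¹ • f, Submodule.smul_mem _ _ hf, ?_⟩
  have e : (⟨Polynomial.monomial n (c⁻¹ • f), monomial_mem (Submodule.smul_mem _ _ hf)⟩ : R[P]) = c⁻¹ • p :=
    Subtype.ext (smul_monomial c⁻¹ n f).symm
  rw [e, map_smul]
  ext m
  rw [coeff_smul, coeff_monomial]
  split_ifs with h
  · subst h; exact inv_mul_cancel₀ hc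
  · have h0 : (Φ p).coeff m = 0 := symbol_unique P (hΦ p m)
      (by rw [show (p : K[X]).coeff m = 0 by simp [p, coeff_monomial, h]]; simp)
    rw [h0, smul_zero]

theorem mem_range_iff {q : k[X]} : q ∈ Φ.range ↔ ∀ n, q.coeff n ≠ 0 → n ∈ poleOrders P := by
  refine ⟨fun ⟨p, hp⟩ n h => mem_poleOrders_of_coeff_ne_zero hK P hs hΦ (p := p) (hp ▸ h), fun h => ?_⟩
  rw [as_sum_support q]
  refine sum_mem fun n hn => ?_
  obtain ⟨f, hf, hl⟩ := exists_monomial_lift hK P hs hΦ (h n (mem_support_iff.mp hn))
  rw [show Polynomial.monomial n (q.coeff n) = q.coeff n • Polynomial.monomial n (1 : k) by simp [smul_monomial]]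
  exact Subalgebra.smul_mem _ ((AlgHom.mem_range _).mpr ⟨_, hl⟩) _

theorem ker_eq (hg : 1 ≤ genus k K) (t : R[P]) {a : K} (ha : a ≠ 0)
    (ht : (t : K[X]) = Polynomial.C a * Polynomial.X) : RingHom.ker Φ = Ideal.span {t} := by
  classical
  obtain ⟨c, rfl⟩ := eq_const_of_mem_L_one hK P hg (x := a) (by
    have := mem_sectRing_iff.mp t.2 1
    rw [ht] at this; simpa using this)
  have hc : c ≠ 0 := fun h => ha (by simp [h])
  refine le_antisymm (fun p hp => ?_) ?_
  · have hlow : ∀ n : ℕ, (p : K[X]).coeff (n + 1) ∈ L (Finsupp.single P (n : ℤ)) := fun n => by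
      intro Q
      have h := mem_sectRing_iff.mp p.2 (n + 1) Q
      rcases eq_or_ne Q P with rfl | hQ
      · have h2 := hΦ p (n + 1)
        rw [show Φ p = 0 from hp, coeff_zero, map_zero, sub_zero, map_mul, map_pow, hs, ← exp_nsmul] at h2
        rw [Finsupp.single_eq_same]
        rcases eq_or_ne ((p : K[X]).coeff (n + 1)) 0 with h0 | h0
        · simp [h0]
        · rw [val_eq_exp_neg_ord Q h0, ← exp_add, ← exp_zero, exp_lt_exp] at h2
          rw [val_eq_exp_neg_ord Q h0, exp_le_exp]
          simp at h2; omega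
      · simpa [Finsupp.single_eq_of_ne hQ] using h
    have h0 : (p : K[X]).coeff 0 = 0 := by
      obtain ⟨d, hd⟩ := mem_L_zero hK P (x := (p : K[X]).coeff 0) (by simpa using mem_sectRing_iff.mp p.2 0)
      have h2 := hΦ p 0
      rw [show Φ p = 0 from hp, coeff_zero, map_zero, sub_zero, pow_zero, mul_one, hd] at h2
      rw [hd]
      by_contra hne
      rw [val_algebraMap P (fun e => hne (by simp [e]))] at h2
      exact lt_irrefl _ h2
    let q : R[P] := ⟨c⁻¹ • Polynomial.divX (p : K[X]), mem_sectRing_iff.mpr fun n => by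
      rw [coeff_smul, coeff_divX]; exact Submodule.smul_mem _ _ (hlow n)⟩
    refine Ideal.mem_span_singleton.mpr ⟨q, Subtype.ext ?_⟩
    rw [Subalgebra.coe_mul, ht]
    change _ = Polynomial.C (algebraMap k K c) * Polynomial.X * (c⁻¹ • Polynomial.divX (p : K[X]))
    conv_lhs => rw [← X_mul_divX_add (p : K[X]), h0, map_zero, add_zero]
    rw [Algebra.smul_def, Polynomial.algebraMap_apply, mul_mul_mul_comm, ← map_mul, ← map_mul,
      mul_inv_cancel₀ hc, map_one, map_one, one_mul]
  · rw [Ideal.span_le, Set.singleton_subset_iff, SetLike.mem_coe, RingHom.mem_ker]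
    ext n
    refine symbol_unique P (hΦ t n) ?_
    rw [ht, coeff_zero, map_zero, sub_zero, coeff_C_mul_X]
    split_ifs with h
    · subst h
      rw [map_mul, val_algebraMap P hc, one_mul, pow_one, hs, ← exp_zero, exp_lt_exp]; decide
    · simp

end

/-- The degree one element is prime and the quotient is the semigroup algebra. -/
theorem prime_and_quotient (hK : IsFunctionField k K) (hg : 1 ≤ genus k K) (P : Place k K)
    (t : R[P]) (a : K) (ha : a ≠ 0) (ht : (t : K[X]) = Polynomial.C a * Polynomial.X) :
    Prime t ∧ Nonempty ((↥R[P] ⧸ Ideal.span {t}) ≃ₐ[k]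
      AddMonoidAlgebra k ↥(AddSubmonoid.closure (poleOrders P))) := by
  classical
  obtain ⟨s, -, hs⟩ := exists_uniformizer P
  obtain ⟨Φ, hΦ⟩ := exists_reduction hK P hs
  have hker := ker_eq hK P hs hΦ hg t ha ht
  have ht0 : t ≠ 0 := fun h => by
    rw [h] at ht
    exact ha (by simpa using (congrArg (fun q : K[X] => q.coeff 1) ht).symm)
  refine ⟨(Ideal.span_singleton_prime ht0).mp (hker ▸ RingHom.ker_isPrime Φ.toRingHom), ?_⟩
  set S := AddSubmonoid.closure (poleOrders P)
  let ι : AddMonoidAlgebra k S →ₐ[k] k[X] :=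
    (Polynomial.toFinsuppIsoAlg k).symm.toAlgHom.comp (AddMonoidAlgebra.mapDomainAlgHom k k S.subtype)
  have hι : Function.Injective ι :=
    (Polynomial.toFinsuppIsoAlg k).symm.injective.comp
      (AddMonoidAlgebra.mapDomain_injective (R := k) (f := S.subtype) Subtype.val_injective)
  have hι1 : ∀ (n : S) (c : k), ι (AddMonoidAlgebra.single n c) = Polynomial.monomial (n : ℕ) c := fun n c => by
    apply (Polynomial.toFinsuppIsoAlg k).injective
    simp [ι, Polynomial.toFinsuppIsoAlg_apply, toFinsupp_monomial]
  have hr : ι.range = Φ.range := by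
    refine le_antisymm ?_ ?_
    · rintro _ ⟨x, rfl⟩
      induction x using AddMonoidAlgebra.induction_linear with
      | zero => rw [map_zero]; exact zero_mem _
      | add x y hx hy => rw [map_add]; exact add_mem hx hy
      | single n c =>
        refine (mem_range_iff hK P hs hΦ).mpr fun m hm => ?_
        change (ι (AddMonoidAlgebra.single n c)).coeff m ≠ 0 at hm
        rw [hι1, coeff_monomial] at hm
        obtain ⟨rfl, -⟩ := ite_ne_right_iff.mp hm
        exact (mem_closure_poleOrders hK P).mp n.2
    · intro q hq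
      rw [as_sum_support q]
      refine sum_mem fun n hn => ?_
      exact ⟨AddMonoidAlgebra.single (⟨n, AddSubmonoid.subset_closure
        ((mem_range_iff hK P hs hΦ).mp hq n (mem_support_iff.mp hn))⟩ : S) _, hι1 _ _⟩
  exact ⟨(Ideal.quotientEquivAlgOfEq k hker.symm).trans (((Ideal.quotientKerEquivRange Φ).trans
    (Subalgebra.equivOfEq _ _ hr.symm)).trans (AlgEquiv.ofInjective ι hι).symm)⟩

/-- The embedding dimension of the section ring. -/
theorem spanFinrank_irrelevant (hK : IsFunctionField k K) (hg : 1 ≤ genus k K) (P : Place k K) :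
    (RingHom.ker (Polynomial.constantCoeff.comp (R[P]).val.toRingHom)).spanFinrank =
      Set.ncard (minGens (poleOrders P)) + 1 := by
  classical
  obtain ⟨s, -, hs⟩ := exists_uniformizer P
  obtain ⟨Φ, hΦ⟩ := exists_reduction hK P hs
  set ε := Polynomial.constantCoeff.comp (R[P]).val.toRingHom
  set I := RingHom.ker ε
  have hI : ∀ p : R[P], p ∈ I ↔ (p : K[X]).coeff 0 = 0 := fun p => Iff.rfl
  have hM : (minGens (poleOrders P)).Finite := by
    refine (Set.finite_le_nat (4 * genus k K + 2)).subset fun n hn => ?_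
    by_contra hlt
    have hlt : 4 * genus k K + 2 < n := not_le.mp hlt
    exact hn.2.2 (2 * genus k K + 1) (mem_poleOrders_of_two_genus_le hK P (by omega))
      (n - (2 * genus k K + 1)) (mem_poleOrders_of_two_genus_le hK P (by omega)) (by omega) (by omega) (by omega)
  have h1L : (1 : K) ∈ L (Finsupp.single P ((1 : ℕ) : ℤ)) :=
    L_mono (D := (0 : Divisor k K)) (fun Q => by simp [Finsupp.single_apply]; split_ifs <;> omega)
      (by simp [mem_L])
  let t : R[P] := ⟨Polynomial.monomial 1 (1 : K), monomial_mem h1L⟩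
  have htker := ker_eq hK P hs hΦ hg t one_ne_zero (by simp [t, monomial_one_one_eq_X])
  haveI : Fintype (minGens (poleOrders P)) := hM.fintype
  choose f hf hl using fun h : minGens (poleOrders P) => exists_monomial_lift hK P hs hΦ h.2.1
  let w : minGens (poleOrders P) → R[P] := fun h => ⟨Polynomial.monomial (h : ℕ) (f h), monomial_mem (hf h)⟩
  let gen : Option (minGens (poleOrders P)) → R[P] := fun o => o.elim t w
  set J := Ideal.span (Set.range gen)
  have hgenI : ∀ o, gen o ∈ I := by
    rintro (_ | h)
    · rw [hI]; simp [gen, t, coeff_monomial]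
    · rw [hI]; simp [gen, w, coeff_monomial, h.2.2.1]
  -- monomials of positive degree come from `J`
  have hmon : ∀ n, n ∈ poleOrders P → n ≠ 0 → ∃ j ∈ J, Φ j = Polynomial.monomial n 1 := by
    intro n
    induction n using Nat.strong_induction_on with
    | _ n ih =>
      intro hn hn0
      by_cases hm : n ∈ minGens (poleOrders P)
      · exact ⟨gen (some ⟨n, hm⟩), Ideal.subset_span ⟨_, rfl⟩, hl ⟨n, hm⟩⟩
      · simp only [minGens, Set.mem_ofPred_eq, not_and, not_forall] at hm
        obtain ⟨a, ha, b, hb, ha0, hb0, hab⟩ := hm hn hn0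
        rw [not_not] at hab
        obtain ⟨j, hj, hj'⟩ := ih a (by omega) ha ha0
        obtain ⟨j₂, -, hj₂⟩ := ih b (by omega) hb hb0
        exact ⟨j * j₂, Ideal.mul_mem_right _ _ hj, by rw [map_mul, hj', hj₂, monomial_mul_monomial, hab, mul_one]⟩
  have hIJ : I = J := by
    refine le_antisymm (fun p hp => ?_) (Ideal.span_le.mpr (by rintro _ ⟨o, rfl⟩; exact hgenI o))
    have hc0 : (Φ p).coeff 0 = 0 := symbol_unique P (hΦ p 0) (by rw [(hI p).mp hp]; simp)
    have hj : ∃ j ∈ J, Φ j = Φ p := by
      rw [as_sum_support (Φ p)]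
      have hall : ∀ n ∈ (Φ p).support, ∃ j ∈ J, Φ j = Polynomial.monomial n ((Φ p).coeff n) := by
        intro n hn
        rw [mem_support_iff] at hn
        obtain ⟨j, hj, hj'⟩ := hmon n (mem_poleOrders_of_coeff_ne_zero hK P hs hΦ hn) (fun h => hn (h ▸ hc0))
        exact ⟨(Φ p).coeff n • j, Submodule.smul_of_tower_mem _ _ hj, by rw [map_smul, hj']; simp [smul_monomial]⟩
      choose j hj hj' using hall
      exact ⟨∑ n : (Φ p).support, j n n.2, Submodule.sum_mem _ fun n _ => hj _ _, by
        rw [map_sum, ← Finset.sum_coe_sort (Φ p).support (fun n => Polynomial.monomial n ((Φ p).coeff n))]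
        exact Finset.sum_congr rfl fun n _ => hj' _ _⟩
    obtain ⟨j, hj, hj'⟩ := hj
    have hd : p - j ∈ RingHom.ker Φ := by rw [RingHom.mem_ker, map_sub, hj', sub_self]
    rw [htker] at hd
    have hd' : p - j ∈ J := Ideal.span_mono (Set.singleton_subset_iff.mpr (show t ∈ Set.range gen from ⟨none, rfl⟩)) hd
    simpa using add_mem hd' hj
  have hncard : Nat.card (Option (minGens (poleOrders P))) = (minGens (poleOrders P)).ncard + 1 := by
    rw [Nat.card_eq_fintype_card, Fintype.card_option, ← Nat.card_eq_fintype_card, Nat.card_coe_set_eq]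
  refine le_antisymm ?_ ?_
  · rw [hIJ, ← hncard]
    refine (Submodule.spanFinrank_span_le_ncard_of_finite (Set.finite_range gen)).trans ?_
    rw [← Nat.card_coe_set_eq]
    exact Finite.card_range_le gen
  · -- the coordinates modulo decomposable elements
    have hfg : Submodule.FG I := hIJ ▸ Submodule.fg_span (Set.finite_range gen)
    have hc1 : ∀ p : R[P], ∃ c : k, (p : K[X]).coeff 1 = algebraMap k K c := fun p =>
      eq_const_of_mem_L_one hK P hg (by simpa using mem_sectRing_iff.mp p.2 1)
    have hc0 : ∀ p : R[P], ∃ c : k, (p : K[X]).coeff 0 = algebraMap k K c := fun p =>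
      mem_L_zero hK P (by simpa using mem_sectRing_iff.mp p.2 0)
    choose c₁ hc₁ using hc1
    choose c₀ hc₀ using hc0
    have hinj := (algebraMap k K).injective
    let Θ : R[P] →ₗ[k] (Option (minGens (poleOrders P)) → k) :=
      { toFun := fun p o => o.elim (c₁ p) fun h => (Φ p).coeff h
        map_add' := fun p q => funext fun o => by
          cases o with
          | none => exact hinj (by simp [← hc₁])
          | some h => simp
        map_smul' := fun r p => funext fun o => by
          cases o with
          | none => exact hinj (by simp [← hc₁, Algebra.smul_def])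
          | some h => simp }
    have hΘ : ∀ p q : R[P], q ∈ I → Θ (p * q) = c₀ p • Θ q := by
      intro p q hq
      funext o
      cases o with
      | none =>
        apply hinj
        change algebraMap k K (c₁ (p * q)) = algebraMap k K (c₀ p * c₁ q)
        rw [map_mul, ← hc₁, ← hc₁, ← hc₀, Subalgebra.coe_mul, mul_coeff_one, (hI q).mp hq]; ring
      | some h =>
        change (Φ (p * q)).coeff h = c₀ p * (Φ q).coeff h
        have hp0 : (Φ p).coeff 0 = c₀ p := symbol_unique P (hΦ p 0) (by rw [hc₀]; simp)
        have hq0 : (Φ q).coeff 0 = 0 := symbol_unique P (hΦ q 0) (by rw [(hI q).mp hq]; simp)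
        rw [map_mul, coeff_mul, Finset.sum_eq_single (0, (h : ℕ))]
        · rw [hp0]
        · rintro ⟨i, j⟩ hij hne
          rw [Finset.mem_antidiagonal] at hij
          by_contra hnz
          rcases eq_or_ne j 0 with rfl | hj
          · exact right_ne_zero_of_mul hnz hq0
          · have hi : i ≠ 0 := fun hi => hne (by subst hi; simp only [zero_add] at hij; rw [hij])
            exact h.2.2.2 i (mem_poleOrders_of_coeff_ne_zero hK P hs hΦ (left_ne_zero_of_mul hnz))
              j (mem_poleOrders_of_coeff_ne_zero hK P hs hΦ (right_ne_zero_of_mul hnz)) hi hj hij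
        · simp
    set G := Submodule.generators I
    have hGf : G.Finite := hfg.finite_generators
    set W := Submodule.span k (Θ '' G)
    have hW : ∀ p ∈ I, Θ p ∈ W := by
      intro p hp
      rw [← Submodule.span_generators I] at hp
      induction hp using Submodule.span_induction with
      | mem x hx => exact Submodule.subset_span ⟨x, hx, rfl⟩
      | zero => simp
      | add x y _ _ hx hy => rw [map_add]; exact add_mem hx hy
      | smul r x hx hx' =>
        rw [Submodule.span_generators] at hx
        rw [smul_eq_mul, hΘ r x hx]; exact Submodule.smul_mem _ _ hx'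
    have htop : W = ⊤ := by
      rw [eq_top_iff, ← (Pi.basisFun k (Option (minGens (poleOrders P)))).span_eq, Submodule.span_le]
      rintro _ ⟨o, rfl⟩
      have hval : Θ (gen o) = Pi.single o 1 := by
        funext o'
        cases o with
        | none =>
          cases o' with
          | none => rw [Pi.single_eq_same]; apply hinj; simp [Θ, ← hc₁, gen, t]
          | some h =>
            rw [Pi.single_eq_of_ne (Option.some_ne_none h)]
            change (Φ t).coeff h = 0
            rw [show Φ t = 0 from (SetLike.ext_iff.mp htker t).mpr (Ideal.mem_span_singleton_self t), coeff_zero]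
        | some h =>
          cases o' with
          | none =>
            rw [Pi.single_eq_of_ne (Option.some_ne_none h).symm]
            apply hinj
            have h1 : (h : ℕ) ≠ 1 := fun e => one_not_mem_poleOrders hK P hg (e ▸ h.2.1)
            simp [Θ, ← hc₁, gen, w, coeff_monomial, h1]
          | some h' =>
            change (Φ (w h)).coeff h' = _
            rw [hl h, coeff_monomial, Pi.single_apply]
            simp [eq_comm, Subtype.ext_iff]
      rw [Pi.basisFun_apply, ← hval]
      exact hW _ (hgenI o)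
    haveI : Fintype (Θ '' G : Set _) := (hGf.image Θ).fintype
    have h1 : Module.finrank k W ≤ (Θ '' G).ncard := by
      refine (finrank_span_le_card (R := k) (Θ '' G)).trans_eq ?_
      exact (Set.ncard_eq_toFinset_card' _).symm
    rw [htop, finrank_top, Module.finrank_pi, ← Nat.card_eq_fintype_card, hncard] at h1
    exact h1.trans ((Set.ncard_image_le hGf).trans_eq hfg.generators_ncard)

end Groth.Agent.GrSectLib
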