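import Groth.Agent.GrSectLib.DenseSubring
import Groth.Prelude.Def_W4c6gradedringsgwSect
import Mathlib.RingTheory.Adjoin.FG

/-! Kunz: a numerical semigroup algebra is Gorenstein exactly for symmetric semigroups. -/

universe u

namespace Groth.Agent.GrSectLib

open Polynomial IsLocalRing

/-- membership of an integer in a set of naturals -/
def InH (H : Set ℕ) (n : ℤ) : Prop := ∃ h ∈ H, (h : ℤ) = n

section combinatorics

variable {H : Set ℕ}

theorem InH.nonneg {n : ℤ} (h : InH H n) : 0 ≤ n := by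
  obtain ⟨a, -, rfl⟩ := h; exact Int.natCast_nonneg a

theorem inH_natCast {a : ℕ} : InH H (a : ℤ) ↔ a ∈ H :=
  ⟨fun ⟨b, hb, e⟩ => by rwa [← Int.ofNat_inj.mp e], fun h => ⟨a, h, rfl⟩⟩

variable (h0 : 0 ∈ H) (hadd : ∀ a ∈ H, ∀ b ∈ H, a + b ∈ H) {c : ℕ} (hc : ∀ n, c ≤ n → n ∈ H)

include hadd in
theorem InH.add {a b : ℤ} (ha : InH H a) (hb : InH H b) : InH H (a + b) := by
  obtain ⟨x, hx, rfl⟩ := ha; obtain ⟨y, hy, rfl⟩ := hb
  exact ⟨x + y, hadd x hx y hy, by push_cast; ring⟩

include hc in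
theorem inH_of_le {n : ℤ} (h : (c : ℤ) ≤ n) : InH H n :=
  ⟨n.toNat, hc _ (by omega), Int.toNat_of_nonneg (by omega)⟩

/-- a pseudo-Frobenius number -/
def IsPF (H : Set ℕ) (g : ℤ) : Prop := ¬ InH H g ∧ ∀ h ∈ H, 0 < h → InH H (g + h)

include hc in
theorem exists_isPF (n : ℤ) (hn : ¬ InH H n) (h0 : 0 ∈ H) (hadd : ∀ a ∈ H, ∀ b ∈ H, a + b ∈ H) :
    ∃ h ∈ H, IsPF H (n + (h : ℤ)) := by
  classical
  have hlt : ∀ h : ℕ, ¬ InH H (n + (h : ℤ)) → n + (h : ℤ) < c := fun h hh => by
    by_contra hge; exact hh (inH_of_le hc (by omega))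
  let S : Set ℕ := {h | h ∈ H ∧ ¬ InH H (n + (h : ℤ))}
  have hfin : S.Finite := (Set.finite_le_nat ((c : ℤ) - n).toNat).subset fun h hh => by
    have := hlt h hh.2; simp only [Set.mem_ofPred_eq]; omega
  have hne : S.Nonempty := ⟨0, h0, by simpa using hn⟩
  obtain ⟨h, ⟨hH, hh⟩, hmax⟩ := hfin.exists_maximal hne
  refine ⟨h, hH, hh, fun h' hh' hpos => ?_⟩
  by_contra hnot
  have := hmax (y := h + h') ⟨hadd h hH h' hh', by push_cast; rwa [← add_assoc]⟩ (Nat.le_add_right _ _)
  omega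

include h0 hadd hc in
/-- symmetry is uniqueness of the pseudo-Frobenius number -/
theorem isSymmetric_iff_existsUnique :
    W4c6gradedringsgw.IsSymmetric H ↔ ∃ F, IsPF H F ∧ ∀ g, IsPF H g → g = F := by
  constructor
  · rintro ⟨d, hd⟩
    have hd' : ∀ n, InH H n ↔ ¬ InH H (d - n) := hd
    have hneg : ∀ n : ℤ, n < 0 → InH H (d - n) := fun n hn => by
      by_contra h; exact absurd ((hd' n).mpr h).nonneg (by omega)
    have hd0 : ¬ InH H d := by simpa using (hd' 0).mp ⟨0, h0, rfl⟩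
    refine ⟨d, ⟨hd0, fun h _ hp => ?_⟩, fun g hg => ?_⟩
    · simpa using hneg (-(h : ℤ)) (by omega)
    · obtain ⟨hg1, hg2⟩ := hg
      have : InH H (d - g) := by
        by_contra h; exact hg1 ((hd' g).mpr h)
      obtain ⟨x, hx, hxe⟩ := this
      rcases Nat.eq_zero_or_pos x with rfl | hpos
      · omega
      · exact absurd (hg2 x hx hpos) (by rw [show g + (x : ℤ) = d by omega]; exact hd0)
  · rintro ⟨F, hF, huniq⟩
    refine ⟨F, fun n => ?_⟩
    change InH H n ↔ ¬ InH H (F - n)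
    refine ⟨fun hn hFn => hF.1 (by simpa using InH.add hadd hn hFn), fun hFn => ?_⟩
    by_contra hn
    obtain ⟨h, hH, hpf⟩ := exists_isPF hc n hn h0 hadd
    exact hFn ⟨h, hH, by have := huniq _ hpf; omega⟩

end combinatorics

section algebra

variable {k : Type u} [Field k] {H : Set ℕ} (B : Subalgebra k k[X])
  (hB : ∀ q : k[X], q ∈ B ↔ ∀ n, q.coeff n ≠ 0 → n ∈ H)

include hB in
theorem X_pow_mem {a : ℕ} (ha : a ∈ H) : (X : k[X]) ^ a ∈ B :=
  (hB _).mpr fun n hn => by
    rw [coeff_X_pow] at hn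
    split_ifs at hn with h
    · exact h ▸ ha
    · exact absurd rfl hn

include hB in
/-- divisibility by a monomial -/
theorem mem_span_iff {m : ℕ} (hm : m ∈ H) (z : B) :
    z ∈ Ideal.span {(⟨X ^ m, X_pow_mem B hB hm⟩ : B)} ↔
      ∀ n : ℕ, (z : k[X]).coeff n ≠ 0 → InH H ((n : ℤ) - m) := by
  rw [Ideal.mem_span_singleton]
  constructor
  · rintro ⟨w, rfl⟩ n hn
    rw [Subalgebra.coe_mul, coeff_X_pow_mul'] at hn
    split_ifs at hn with h
    · exact ⟨n - m, (hB _).mp w.2 _ hn, by omega⟩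
    · exact absurd rfl hn
  · intro h
    have hdvd : (X : k[X]) ^ m ∣ (z : k[X]) := X_pow_dvd_iff.mpr fun d hd => by
      by_contra hne; exact absurd (h d hne).nonneg (by omega)
    obtain ⟨w, hw⟩ := hdvd
    refine ⟨⟨w, (hB _).mpr fun n hn => ?_⟩, Subtype.ext hw⟩
    have := h (n + m) (by rwa [hw, add_comm n m, coeff_X_pow_mul', if_pos (by omega), Nat.add_sub_cancel_left])
    exact inH_natCast.mp (by simpa using this)

include hB in
theorem coeff_zero_mem_span {m : ℕ} (hm : m ∈ H) (hm0 : 0 < m) (z : B)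
    (hz : z ∈ Ideal.span {(⟨X ^ m, X_pow_mem B hB hm⟩ : B)}) : (z : k[X]).coeff 0 = 0 := by
  by_contra h
  exact absurd ((mem_span_iff B hB hm z).mp hz 0 h).nonneg (by omega)

/-- the augmentation -/
noncomputable def aug : B →+* k := Polynomial.constantCoeff.comp B.val.toRingHom

variable (h0 : 0 ∈ H) (hadd : ∀ a ∈ H, ∀ b ∈ H, a + b ∈ H) {c : ℕ} (hc : ∀ n, c ≤ n → n ∈ H)

include hB hc in
theorem X_pow_mul_mem {n : ℕ} (hn : c ≤ n) (f : k[X]) : X ^ n * f ∈ B :=
  (hB _).mpr fun a ha => hc a (by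
    rw [coeff_X_pow_mul'] at ha
    split_ifs at ha with h
    · omega
    · exact absurd rfl ha)

include hB hc in
/-- away from the vertex the semigroup algebra is regular -/
theorem gorenstein_off_vertex (q : Ideal B) [q.IsPrime] (hq : q ≠ RingHom.ker (aug B)) :
    _root_.LocCoh.IsGorensteinLocalRing (Localization.AtPrime q) := by
  by_cases hall : ∀ h (hh : h ∈ H), 0 < h → (⟨X ^ h, X_pow_mem B hB hh⟩ : B) ∈ q
  · exfalso
    refine hq ?_
    have hle : RingHom.ker (aug B) ≤ q := by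
      intro z hz
      change (z : k[X]).coeff 0 = 0 at hz
      classical
      have hz' : z = ∑ a ∈ (z : k[X]).support.attach, (z : k[X]).coeff a.1 •
          (⟨X ^ a.1, X_pow_mem B hB ((hB _).mp z.2 _ (mem_support_iff.mp a.2))⟩ : B) := by
        apply Subtype.ext
        push_cast
        rw [Finset.sum_attach (z : k[X]).support (fun a => (z : k[X]).coeff a • X ^ a)]
        conv_lhs => rw [as_sum_support (z : k[X])]
        simp [smul_eq_C_mul, C_mul_X_pow_eq_monomial]
      rw [hz']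
      refine Submodule.sum_mem _ fun a _ => Submodule.smul_of_tower_mem _ _
        (hall _ ((hB _).mp z.2 _ (mem_support_iff.mp a.2)) ?_)
      refine Nat.pos_of_ne_zero fun h => (mem_support_iff.mp a.2) (by rw [h]; exact hz)
    have hmax : (RingHom.ker (aug B)).IsMaximal :=
      RingHom.ker_isMaximal_of_surjective _ fun r => ⟨algebraMap k B r, by simp [aug]⟩
    exact (hmax.eq_of_le (Ideal.IsPrime.ne_top inferInstance) hle).symm
  · push Not at hall
    obtain ⟨h, hh, hpos, hnot⟩ := hall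
    have : IsPrincipalIdealRing k[X] := inferInstance
    refine gorenstein_of_dense B.val.toRingHom Subtype.val_injective
      (Submonoid.powers (⟨X ^ h, X_pow_mem B hB hh⟩ : B)) ?_ ?_ q ?_
    · rintro _ ⟨n, rfl⟩ e
      have := congrArg (fun z : B => (z : k[X])) e
      simp at this
    · intro s
      refine ⟨_, ⟨c, rfl⟩, ⟨_, X_pow_mul_mem B hB hc (n := h * c) (Nat.le_mul_of_pos_left _ hpos) s⟩, ?_⟩
      simp [pow_mul]
    · rintro _ ⟨n, rfl⟩ hmem
      exact hnot (Ideal.IsPrime.mem_of_pow_mem inferInstance n hmem)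

include hB hc in
theorem finiteType : Algebra.FiniteType k B := by
  classical
  have key : B = Algebra.adjoin k ((fun a : ℕ => (X : k[X]) ^ a) '' {a | a ∈ H ∧ a ≤ 2 * c + 1}) := by
    refine le_antisymm (fun q hq => ?_) (Algebra.adjoin_le ?_)
    · have hmon : ∀ a ∈ H, (X : k[X]) ^ a ∈
          Algebra.adjoin k ((fun a : ℕ => (X : k[X]) ^ a) '' {a | a ∈ H ∧ a ≤ 2 * c + 1}) := by
        intro a
        induction a using Nat.strong_induction_on with
        | _ a ih =>
          intro ha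
          by_cases hle : a ≤ 2 * c + 1
          · exact Algebra.subset_adjoin ⟨a, ⟨ha, hle⟩, rfl⟩
          · rw [show a = (c + 1) + (a - (c + 1)) by omega, pow_add]
            exact mul_mem (ih _ (by omega) (hc _ (by omega))) (ih _ (by omega) (hc _ (by omega)))
      rw [as_sum_support q]
      refine sum_mem fun a ha => ?_
      rw [← C_mul_X_pow_eq_monomial, ← smul_eq_C_mul]
      exact Subalgebra.smul_mem _ (hmon a ((hB q).mp hq a (mem_support_iff.mp ha))) _
    · rintro _ ⟨a, ha, rfl⟩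
      exact X_pow_mem B hB ha.1
  refine (Subalgebra.fg_iff_finiteType B).mp ⟨((Set.finite_le_nat (2 * c + 1)).subset
    (fun a (ha : a ∈ H ∧ a ≤ 2 * c + 1) => ha.2) |>.image (fun a : ℕ => (X : k[X]) ^ a)).toFinset, ?_⟩
  rw [Set.Finite.coe_toFinset]; exact key.symm

/-- coefficientwise divisibility by the monomial of degree `m` -/
def IsZeroC (H : Set ℕ) (m : ℕ) (f : k[X]) : Prop := ∀ n : ℕ, f.coeff n ≠ 0 → InH H ((n : ℤ) - m)

/-- coefficientwise socle condition -/
def IsSocC (H : Set ℕ) (m : ℕ) (f : k[X]) : Prop :=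
  ∀ n : ℕ, f.coeff n ≠ 0 → ∀ h ∈ H, 0 < h → InH H ((n : ℤ) + h - m)

include hB in
theorem isSocC_iff {m : ℕ} (z : B) :
    IsSocC H m z.1 ↔ ∀ a : B, (a : k[X]).coeff 0 = 0 → IsZeroC H m (a * z : B).1 := by
  constructor
  · intro hz w hw n hn
    rw [Subalgebra.coe_mul, coeff_mul] at hn
    obtain ⟨⟨i, j⟩, hij, hne⟩ := Finset.exists_ne_zero_of_sum_ne_zero hn
    rw [Finset.HasAntidiagonal.mem_antidiagonal] at hij
    have hi : i ≠ 0 := fun h => left_ne_zero_of_mul hne (h ▸ hw)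
    have := hz j (right_ne_zero_of_mul hne) i ((hB _).mp w.2 i (left_ne_zero_of_mul hne)) (by omega)
    rwa [show (n : ℤ) - m = (j : ℤ) + i - m by omega]
  · intro hz n hn h hh hpos
    have h1 := hz ⟨X ^ h, X_pow_mem B hB hh⟩ (by simp [hpos.ne]) (n + h) (by
      rwa [Subalgebra.coe_mul, add_comm n h, coeff_X_pow_mul', if_pos (by omega), Nat.add_sub_cancel_left])
    simpa using h1

include hB in
theorem socle_line_iff (m : ℕ) (hm : m ∈ H) (hm0 : 0 < m) :
    (∃ e : B, ¬ IsZeroC H m e.1 ∧ IsSocC H m e.1 ∧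
      ∀ z : B, IsSocC H m z.1 → ∃ r : B, IsZeroC H m (r * e - z : B).1) ↔
      ∃ F, IsPF H F ∧ ∀ g, IsPF H g → g = F := by
  classical
  have hpfmem : ∀ g, IsPF H g → ∃ a : ℕ, a ∈ H ∧ g = (a : ℤ) - m := fun g hg => by
    obtain ⟨a, ha, hae⟩ := hg.2 m hm hm0
    exact ⟨a, ha, by omega⟩
  have hPF : ∀ (z : B) (n : ℕ), IsSocC H m z.1 → (z : k[X]).coeff n ≠ 0 → ¬ InH H ((n : ℤ) - m) →
      IsPF H ((n : ℤ) - m) := fun z n hz hn hnot => ⟨hnot, fun h hh hp => by
    rw [show (n : ℤ) - m + h = (n : ℤ) + h - m by ring]; exact hz n hn h hh hp⟩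
  have hmon : ∀ (a : ℕ), IsPF H ((a : ℤ) - m) →
      ¬ IsZeroC H m ((X : k[X]) ^ a) ∧ IsSocC H m ((X : k[X]) ^ a) := by
    intro a hg
    refine ⟨fun h => hg.1 (h a (by simp)), fun n hn h hh hpos => ?_⟩
    obtain rfl : n = a := by
      by_contra hne; exact hn (by simp [coeff_X_pow, hne])
    rw [show (n : ℤ) + h - m = (n : ℤ) - m + h by ring]
    exact hg.2 h hh hpos
  constructor
  · rintro ⟨e, he0, he, hline⟩
    simp only [IsZeroC, not_forall] at he0
    obtain ⟨n₀, hn₀, hn₀'⟩ := he0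
    refine ⟨_, hPF e n₀ he hn₀ hn₀', fun g hg => ?_⟩
    obtain ⟨a, ha, rfl⟩ := hpfmem g hg
    obtain ⟨hne, hs⟩ := hmon a hg
    obtain ⟨r, hr⟩ := hline ⟨X ^ a, X_pow_mem B hB ha⟩ hs
    -- only the constant term of the multiplier matters
    set r0 := (r : k[X]).coeff 0
    have h2 : ∀ n, ((r - algebraMap k B r0 : B) * e : B).1.coeff n ≠ 0 → InH H ((n : ℤ) - m) :=
      (isSocC_iff B hB e).mp he _ (by simp [r0])
    have h3 : ∀ n, ((C r0 * (e : k[X]) - X ^ a : k[X])).coeff n ≠ 0 → InH H ((n : ℤ) - m) := by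
      intro n hn
      by_contra hnot
      have e1 := not_imp_comm.mp (hr n) hnot
      have e2 := not_imp_comm.mp (h2 n) hnot
      apply hn
      have : (C r0 * (e : k[X]) - X ^ a : k[X]) = (r * e - ⟨X ^ a, X_pow_mem B hB ha⟩ : B).1 -
          ((r - algebraMap k B r0 : B) * e : B).1 := by
        push_cast; rw [Polynomial.algebraMap_eq]; ring
      rw [this, coeff_sub, e1, e2, sub_zero]
    by_contra hne'
    have han : n₀ ≠ a := fun h => hne' (by rw [h])
    refine hn₀' (h3 n₀ ?_)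
    have hr00 : r0 ≠ 0 := fun h => by
      refine hg.1 (h3 a ?_); simp [h]
    simp [coeff_X_pow, han, hr00, hn₀]
  · rintro ⟨F, hF, huniq⟩
    obtain ⟨a, ha, rfl⟩ := hpfmem F hF
    obtain ⟨hne, hs⟩ := hmon a hF
    refine ⟨⟨X ^ a, X_pow_mem B hB ha⟩, hne, hs, fun z hz => ⟨algebraMap k B ((z : k[X]).coeff a), ?_⟩⟩
    intro n hn
    by_contra hnot
    have hna : n ≠ a := fun h => hn (by simp [h])
    have hzn : (z : k[X]).coeff n ≠ 0 := by
      intro h; exact hn (by simp [coeff_X_pow, hna, h])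
    have := huniq _ (hPF z n hz hzn hnot)
    omega

include hB h0 hadd hc in
/-- Kunz's theorem at the vertex. -/
theorem gorenstein_vertex_iff (q : Ideal B) [q.IsPrime] (hq : q = RingHom.ker (aug B)) :
    _root_.LocCoh.IsGorensteinLocalRing (Localization.AtPrime q) ↔ W4c6gradedringsgw.IsSymmetric H := by
  classical
  have : Algebra.FiniteType k B := finiteType B hB hc
  have : IsNoetherianRing B := Algebra.FiniteType.isNoetherianRing k B
  have hm : c + 1 ∈ H := hc _ (by omega)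
  have hqmax : q.IsMaximal := hq ▸
    RingHom.ker_isMaximal_of_surjective _ fun r => ⟨algebraMap k B r, by simp [aug]⟩
  have hx0 : (⟨X ^ (c + 1), X_pow_mem B hB hm⟩ : B) ≠ 0 := fun e => by
    have := congrArg (fun z : B => (z : k[X])) e; simp at this
  have hxq : (⟨X ^ (c + 1), X_pow_mem B hB hm⟩ : B) ∈ q := by
    rw [hq, RingHom.mem_ker]; simp [aug]
  have hnil : q ≤ (Ideal.span {(⟨X ^ (c + 1), X_pow_mem B hB hm⟩ : B)}).radical := by
    intro z hz
    rw [hq] at hz
    refine ⟨c + (c + 1), (mem_span_iff B hB hm _).mpr fun n hn => ?_⟩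
    obtain ⟨w, hw⟩ := (X_dvd_iff (f := (z : k[X]))).mpr hz
    rw [SubmonoidClass.coe_pow, hw, mul_pow, coeff_X_pow_mul'] at hn
    split_ifs at hn with h
    · exact inH_of_le hc (by omega)
    · exact absurd rfl hn
  rw [gorenstein_atPrime_iff_socle _ hx0 q hxq hnil, isSymmetric_iff_existsUnique h0 hadd hc,
    ← socle_line_iff B hB (c + 1) hm (by omega)]
  subst hq
  refine exists_congr fun e => and_congr (not_congr (mem_span_iff B hB hm e)) (and_congr ?_ ?_)
  · rw [isSocC_iff B hB]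
    exact forall₂_congr fun a _ => mem_span_iff B hB hm _
  · refine forall_congr' fun z => imp_congr ?_ (exists_congr fun r => mem_span_iff B hB hm _)
    rw [isSocC_iff B hB]
    exact forall₂_congr fun a _ => mem_span_iff B hB hm _

end algebra

end Groth.Agent.GrSectLib
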