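import Groth.Agent.GrSectLib.PointDivisor
import Groth.Agent.GrSectLib.SemigroupGorenstein
import Mathlib.RingTheory.Polynomial.Basic
import Mathlib.RingTheory.Valuation.ValuationSubring
import Mathlib.RingTheory.DedekindDomain.Dvr

/-! The section ring of a point is Gorenstein exactly when the Weierstrass semigroup is symmetric. -/

set_option autoImplicit false

universe u

namespace Groth.Agent.GrSectLib

open WithZero FunFld W4c6gradedringsgw Groth.Agent.FF Polynomial
open scoped Classical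

variable {k K : Type u} [Field k] [Field K] [Algebra k K] [IsAlgClosed k]
  (hK : IsFunctionField k K) (P : Place k K)

local notation "R[" P "]" => sectRing (Finsupp.single P 1 : FunFld.Divisor _ _)

/-- regular away from `P` -/
def IsAffineFn (x : K) : Prop := ∀ Q : Place k K, Q ≠ P → Q.1 x ≤ 1

omit [IsAlgClosed k] in
theorem isAffineFn_of_mem_L {n : ℤ} {x : K} (hx : x ∈ L (Finsupp.single P n)) : IsAffineFn P x :=
  fun Q hQ => by simpa [Finsupp.single_eq_of_ne hQ] using hx Q

omit [IsAlgClosed k] in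
theorem exists_mem_L {x : K} (hx : IsAffineFn P x) : ∃ n : ℕ, x ∈ L (Finsupp.single P (n : ℤ)) := by
  rcases eq_or_ne x 0 with rfl | h0
  · exact ⟨0, zero_mem _⟩
  refine ⟨(-(P.ord x)).toNat, fun Q => ?_⟩
  rcases eq_or_ne Q P with rfl | hQ
  · rw [Finsupp.single_eq_same, val_le_exp_iff Q h0]; omega
  · simpa [Finsupp.single_eq_of_ne hQ] using hx Q hQ

omit [IsAlgClosed k] in
theorem monomial_mem' {n : ℕ} {x : K} (hx : x ∈ L (Finsupp.single P (n : ℤ))) {m : ℕ} (hm : n ≤ m) :
    x ∈ L (Finsupp.single P (m : ℤ)) :=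
  L_mono (fun Q => by simp only [Finsupp.single_apply]; split_ifs <;> omega) hx

omit [IsAlgClosed k] in
theorem isPrincipalIdealRing_placeRing (Q : Place k K) : IsPrincipalIdealRing Q.O := by
  refine ⟨fun I => ?_⟩
  rcases eq_or_ne I ⊥ with rfl | hI
  · exact ⟨⟨0, by simp⟩⟩
  obtain ⟨a₀, ha₀, ha₀'⟩ := Submodule.exists_mem_ne_zero_of_ne_bot hI
  have hex : ∃ n : ℕ, ∃ a ∈ I, (a : K) ≠ 0 ∧ Q.ord (a : K) = n := by
    have h0 : (a₀ : K) ≠ 0 := fun h => ha₀' (Subtype.ext h)
    have := (val_le_one_iff Q h0).mp ((mem_O (P := Q)).mp a₀.2)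
    exact ⟨(Q.ord (a₀ : K)).toNat, a₀, ha₀, h0, (Int.toNat_of_nonneg this).symm⟩
  obtain ⟨a, ha, ha0, hmin⟩ := Nat.find_spec hex
  refine ⟨⟨a, le_antisymm (fun b hb => ?_) (by rw [Submodule.span_singleton_le_iff_mem]; exact ha)⟩⟩
  rcases eq_or_ne (b : K) 0 with hb0 | hb0
  · rw [show b = 0 from Subtype.ext hb0]; exact zero_mem _
  have hbn := (val_le_one_iff Q hb0).mp ((mem_O (P := Q)).mp b.2)
  have hle : Nat.find hex ≤ (Q.ord (b : K)).toNat :=
    Nat.find_min' hex ⟨b, hb, hb0, (Int.toNat_of_nonneg hbn).symm⟩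
  have hv : Q.1 ((b : K) / a) ≤ 1 := by
    rw [map_div₀, div_le_one₀ (zero_lt_iff.mpr ((map_ne_zero Q.1).mpr ha0)), val_eq_exp_neg_ord Q hb0,
      val_eq_exp_neg_ord Q ha0, exp_le_exp, hmin]
    omega
  exact Submodule.mem_span_singleton.mpr ⟨⟨_, (mem_O (P := Q)).mpr hv⟩, Subtype.ext (div_mul_cancel₀ _ ha0)⟩

include hK

omit [IsAlgClosed k] in
/-- the polar divisor away from `P` -/
theorem exists_polar (Z : Finset K) : ∃ D : Divisor k K, 0 ≤ D ∧ D P = 0 ∧
    (∀ z ∈ Z, ∀ Q, Q ≠ P → Q.1 z ≤ exp (D Q)) ∧ ∀ Q, (∀ z ∈ Z, Q.1 z ≤ 1) → D Q = 0 := by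
  let f : Place k K → ℤ := fun Q => if Q = P then 0 else ∑ z ∈ Z, max 0 (-(Q.ord z))
  have hfin : (Function.support f).Finite := by
    refine (Z.finite_toSet.biUnion fun z _ => finite_support_ord hK z).subset fun Q hQ => ?_
    simp only [Function.mem_support, f] at hQ
    split_ifs at hQ with h
    · exact absurd rfl hQ
    · obtain ⟨z, hz, hne⟩ := Finset.exists_ne_zero_of_sum_ne_zero hQ
      exact Set.mem_biUnion hz (fun h0 : Q.ord z = 0 => hne (by rw [h0]; simp))
  refine ⟨Finsupp.ofSupportFinite f hfin, fun Q => ?_, if_pos rfl, fun z hz Q hQ => ?_, fun Q hQ => ?_⟩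
  · simp only [Finsupp.coe_zero, Pi.zero_apply, Finsupp.ofSupportFinite_coe, f]
    split_ifs
    · exact le_rfl
    · exact Finset.sum_nonneg fun z _ => le_max_left _ _
  · rcases eq_or_ne z 0 with rfl | h0
    · simp
    rw [val_le_exp_iff Q h0, Finsupp.ofSupportFinite_coe]
    simp only [f, if_neg hQ]
    have := Finset.single_le_sum (f := fun z => max 0 (-(Q.ord z))) (fun _ _ => le_max_left _ _) hz
    have := le_max_right 0 (-(Q.ord z))
    omega
  · rw [Finsupp.ofSupportFinite_coe]
    simp only [f]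
    split_ifs
    · rfl
    · refine Finset.sum_eq_zero fun z hz => ?_
      rcases eq_or_ne z 0 with rfl | h0
      · simp
      · have := (val_le_one_iff Q h0).mp (hQ z hz); omega

/-- multipliers into the affine ring -/
theorem exists_mult (Z : Finset K) (Q₀ : Option (Place k K))
    (hQ₀ : ∀ Q ∈ Q₀, Q ≠ P ∧ ∀ z ∈ Z, Q.1 z ≤ 1) :
    ∃ s : K, s ≠ 0 ∧ (∀ Q ∈ Q₀, Q.1 s = 1) ∧ IsAffineFn P s ∧ ∀ z ∈ Z, IsAffineFn P (s * z) := by
  obtain ⟨D, hD0, hDP, hD, hDz⟩ := exists_polar hK P Z
  let n : ℤ := D.deg + 2 * (genus k K : ℤ) + 1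
  have hdegD : ∀ E : Divisor k K, E.deg ≤ 1 → (ell (Finsupp.single P n - D - E) : ℤ) =
      n - D.deg - E.deg + 1 - genus k K := fun E hE => by
    rw [ell_eq_of_deg_large hK (by rw [deg_sub, deg_sub, deg_single, deg_eq_one hK]; push_cast; omega),
      deg_sub, deg_sub, deg_single, deg_eq_one hK]
    push_cast; ring
  have key : ∀ s : K, s ∈ L (Finsupp.single P n - D) → IsAffineFn P s ∧ ∀ z ∈ Z, IsAffineFn P (s * z) := by
    intro s hs
    have h1 : ∀ Q, Q ≠ P → Q.1 s ≤ exp (-(D Q)) := fun Q hQ => by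
      simpa [Finsupp.single_eq_of_ne hQ] using hs Q
    refine ⟨fun Q hQ => (h1 Q hQ).trans ?_, fun z hz Q hQ => ?_⟩
    · rw [← exp_zero, exp_le_exp]; have h0 : 0 ≤ D Q := hD0 Q; omega
    · rw [map_mul]
      refine (mul_le_mul' (h1 Q hQ) (hD z hz Q hQ)).trans ?_
      rw [← exp_add, neg_add_cancel, exp_zero]
  cases Q₀ with
  | none =>
    have h := hdegD 0 (by simp [Divisor.deg])
    rw [sub_zero, show (0 : Divisor k K).deg = 0 from by simp [Divisor.deg]] at h
    obtain ⟨s, hs0, hs⟩ := exists_of_ell_pos (D := Finsupp.single P n - D) (by omega)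
    exact ⟨s, hs0, fun _ h => absurd h (by simp), key s hs⟩
  | some Q =>
    obtain ⟨hQP, hQZ⟩ := hQ₀ Q rfl
    have h0 := hdegD 0 (by simp [Divisor.deg])
    have h1 := hdegD (Finsupp.single Q 1) (by rw [deg_single, deg_eq_one hK]; simp)
    rw [sub_zero, show (0 : Divisor k K).deg = 0 from by simp [Divisor.deg]] at h0
    rw [deg_single, deg_eq_one hK] at h1
    have hnle : ¬ L (Finsupp.single P n - D) ≤ L (Finsupp.single P n - D - Finsupp.single Q 1) := by
      intro hle
      have hfd := finiteDimensional_L hK (Finsupp.single P n - D - Finsupp.single Q 1)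
      have := Submodule.finrank_mono hle
      change ell _ ≤ ell _ at this
      push_cast at h1
      omega
    obtain ⟨s, hs, hs'⟩ := SetLike.not_le_iff_exists.mp hnle
    have hs0 : s ≠ 0 := fun h => hs' (h ▸ zero_mem _)
    refine ⟨s, hs0, fun Q' hQ' => ?_, key s hs⟩
    rw [Option.mem_def, Option.some_inj] at hQ'
    subst hQ'
    have hle : Q.1 s ≤ 1 := (key s hs).1 Q hQP
    rcases hle.lt_or_eq with hlt | heq
    · refine absurd (fun R => ?_) hs'
      rcases eq_or_ne R Q with rfl | hR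
      · rw [val_le_exp_iff R hs0]
        have := (val_lt_one_iff R hs0).mp hlt
        simp [Finsupp.single_eq_of_ne hQP, hDz R hQZ]
        omega
      · simpa [Finsupp.single_eq_of_ne hR] using hs R
    · exact heq

variable {s₀ : K} (hs₀ : P.1 s₀ = exp (-1 : ℤ)) {Φ : R[P] →ₐ[k] k[X]}
  (hΦ : ∀ (p : R[P]) (n : ℕ), P.1 ((p : K[X]).coeff n * s₀ ^ n - algebraMap k K ((Φ p).coeff n)) < 1)

include hs₀ hΦ in
theorem finiteType_sectRing (hg : 1 ≤ genus k K) (t : R[P]) (ht : (t : K[X]) = X) :
    Algebra.FiniteType k R[P] := by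
  set c := 2 * genus k K
  have hker := ker_eq hK P hs₀ hΦ hg t one_ne_zero (by simp [ht])
  choose f hf hl using fun (n : ℕ) (hn : n ∈ poleOrders P) => exists_monomial_lift hK P hs₀ hΦ hn
  let lift : ∀ n, n ∈ poleOrders P → R[P] := fun n hn => ⟨monomial n (f n hn), monomial_mem (hf n hn)⟩
  let G : Set R[P] := insert t (Set.range fun a : {a : ℕ // a ∈ poleOrders P ∧ a ≤ 2 * c + 1} => lift a a.2.1)
  have hGfin : G.Finite := by
    have : Finite {a : ℕ // a ∈ poleOrders P ∧ a ≤ 2 * c + 1} :=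
      ((Set.finite_le_nat (2 * c + 1)).subset fun a (ha : a ∈ poleOrders P ∧ a ≤ 2 * c + 1) => ha.2).to_subtype
    exact (Set.finite_range _).insert _
  set S := Algebra.adjoin k G
  have hmon : ∀ a, a ∈ poleOrders P → ∃ j ∈ S, (j : K[X]).natDegree ≤ a ∧ Φ j = monomial a 1 := by
    intro a
    induction a using Nat.strong_induction_on with
    | _ a ih =>
      intro ha
      by_cases hle : a ≤ 2 * c + 1
      · exact ⟨lift a ha, Algebra.subset_adjoin (Set.mem_insert_of_mem _ ⟨⟨a, ha, hle⟩, rfl⟩),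
          natDegree_monomial_le _, hl a ha⟩
      · obtain ⟨j, hj, hjd, hje⟩ := ih (c + 1) (by omega) (mem_poleOrders_of_two_genus_le hK P (by omega))
        obtain ⟨i, hi, hid, hie⟩ := ih (a - (c + 1)) (by omega) (mem_poleOrders_of_two_genus_le hK P (by omega))
        refine ⟨j * i, mul_mem hj hi, ?_, ?_⟩
        · rw [Subalgebra.coe_mul]; exact natDegree_mul_le.trans (by omega)
        · rw [map_mul, hje, hie, monomial_mul_monomial, mul_one, show c + 1 + (a - (c + 1)) = a by omega]
  have hall : ∀ (d : ℕ) (p : R[P]), (p : K[X]).natDegree ≤ d → p ∈ S := by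
    intro d
    induction d using Nat.strong_induction_on with
    | _ d ih =>
      intro p hp
      have hterm : ∀ n ∈ (Φ p).support, ∃ j ∈ S, (j : K[X]).natDegree ≤ d ∧ Φ j = monomial n ((Φ p).coeff n) := by
        intro n hn
        rw [mem_support_iff] at hn
        obtain ⟨j, hj, hjd, hje⟩ := hmon n (mem_poleOrders_of_coeff_ne_zero hK P hs₀ hΦ hn)
        refine ⟨(Φ p).coeff n • j, Subalgebra.smul_mem _ hj _, ?_, by rw [map_smul, hje]; simp [smul_monomial]⟩
        have hnd : n ≤ d := by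
          refine le_trans (le_natDegree_of_ne_zero fun h => hn ?_) hp
          exact symbol_unique P (hΦ p n) (by rw [h]; simp)
        exact (natDegree_smul_le _ _).trans (hjd.trans hnd)
      choose j hj hjd hje using hterm
      let J : R[P] := ∑ n : (Φ p).support, j n n.2
      have hJ : Φ J = Φ p := by
        conv_rhs => rw [as_sum_support (Φ p)]
        rw [map_sum, ← Finset.sum_coe_sort (Φ p).support (fun n => monomial n ((Φ p).coeff n))]
        exact Finset.sum_congr rfl fun n _ => hje _ _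
      have hJS : J ∈ S := Subalgebra.sum_mem _ fun n _ => hj _ _
      have hJd : (J : K[X]).natDegree ≤ d := by
        rw [AddSubmonoidClass.coe_finsetSum]
        exact natDegree_sum_le_of_forall_le _ _ fun n _ => hjd _ _
      have hd : p - J ∈ RingHom.ker Φ := by rw [RingHom.mem_ker, map_sub, hJ, sub_self]
      rw [hker, Ideal.mem_span_singleton] at hd
      obtain ⟨q, hq⟩ := hd
      have hp' : p = t * q + J := by rw [← hq, sub_add_cancel]
      rw [hp']
      refine add_mem ?_ hJS
      rcases eq_or_ne q 0 with rfl | hq0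
      · rw [mul_zero]; exact zero_mem _
      · refine mul_mem (Algebra.subset_adjoin (Set.mem_insert _ _)) ?_
        have hqd : (q : K[X]).natDegree + 1 ≤ d := by
          have hne : (q : K[X]) ≠ 0 := fun h => hq0 (Subtype.ext h)
          have h1 : ((p - J : R[P]) : K[X]).natDegree ≤ d := by
            rw [Subalgebra.coe_sub]; exact (natDegree_sub_le _ _).trans (max_le hp hJd)
          rw [hq, Subalgebra.coe_mul, ht, natDegree_X_mul hne] at h1
          exact h1
        exact ih (d - 1) (by omega) q (by omega)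
  exact ⟨⟨hGfin.toFinset, by rw [Set.Finite.coe_toFinset, eq_top_iff]; exact fun p _ => hall _ p le_rfl⟩⟩

omit hs₀ hΦ in
/-- Localisations at primes not containing the degree one element are regular. -/
theorem gorenstein_off_t (t : R[P]) (ht : (t : K[X]) = X) (p : Ideal R[P]) [p.IsPrime] (htp : t ∉ p) :
    _root_.LocCoh.IsGorensteinLocalRing (Localization.AtPrime p) := by
  -- the trace of `p` on the affine ring
  let q : K → Prop := fun s => ∃ (n : ℕ) (h : s ∈ L (Finsupp.single P (n : ℤ))),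
    (⟨monomial n s, monomial_mem h⟩ : R[P]) ∈ p
  have hpow : ∀ (n m : ℕ) (s : K) (h : s ∈ L (Finsupp.single P (n : ℤ))) (h' : s ∈ L (Finsupp.single P (m : ℤ))),
      (⟨monomial n s, monomial_mem h⟩ : R[P]) ∈ p → (⟨monomial m s, monomial_mem h'⟩ : R[P]) ∈ p := by
    intro n m s h h' hmem
    have e : (⟨monomial n s, monomial_mem h⟩ : R[P]) * t ^ m = ⟨monomial m s, monomial_mem h'⟩ * t ^ n :=
      Subtype.ext (by
        simp only [Subalgebra.coe_mul, SubmonoidClass.coe_pow, ht, monomial_mul_X_pow, add_comm])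
    have h2 := Ideal.mul_mem_right (t ^ m) p hmem
    rw [e] at h2
    exact (Ideal.IsPrime.mem_or_mem inferInstance h2).resolve_right
      fun h3 => htp (Ideal.IsPrime.mem_of_pow_mem inferInstance n h3)
  have hqmul : ∀ x s, IsAffineFn P x → q s → q (x * s) := by
    rintro x s hx ⟨n, h, hmem⟩
    obtain ⟨m, hm⟩ := exists_mem_L P hx
    have hxs : x * s ∈ L (Finsupp.single P ((m + n : ℕ) : ℤ)) := by
      rw [Nat.cast_add, Finsupp.single_add]; exact W4c6gradedringsgw.mul_mem_L hm h
    refine ⟨m + n, hxs, ?_⟩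
    rw [show (⟨monomial (m + n) (x * s), monomial_mem hxs⟩ : R[P]) =
      ⟨monomial m x, monomial_mem hm⟩ * ⟨monomial n s, monomial_mem h⟩ from
      Subtype.ext (monomial_mul_monomial m n x s).symm]
    exact Ideal.mul_mem_left _ _ hmem
  have hqprime : ∀ x s, IsAffineFn P x → IsAffineFn P s → q (x * s) → q x ∨ q s := by
    rintro x s hx hs ⟨n, h, hmem⟩
    obtain ⟨a, ha⟩ := exists_mem_L P hx
    obtain ⟨c, hc⟩ := exists_mem_L P hs
    have hxs : x * s ∈ L (Finsupp.single P ((a + c : ℕ) : ℤ)) := by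
      rw [Nat.cast_add, Finsupp.single_add]; exact W4c6gradedringsgw.mul_mem_L ha hc
    have h2 := hpow n (a + c) _ h hxs hmem
    rw [show (⟨monomial (a + c) (x * s), monomial_mem hxs⟩ : R[P]) =
      ⟨monomial a x, monomial_mem ha⟩ * ⟨monomial c s, monomial_mem hc⟩ from
      Subtype.ext (monomial_mul_monomial a c x s).symm] at h2
    rcases Ideal.IsPrime.mem_or_mem inferInstance h2 with h3 | h3
    · exact Or.inl ⟨a, ha, h3⟩
    · exact Or.inr ⟨c, hc, h3⟩
  have hq1 : ¬ q 1 := by
    rintro ⟨n, h, hmem⟩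
    refine htp (Ideal.IsPrime.mem_of_pow_mem inferInstance n ?_)
    rwa [show t ^ n = (⟨monomial n 1, monomial_mem h⟩ : R[P]) from
      Subtype.ext (by rw [SubmonoidClass.coe_pow, ht, X_pow_eq_monomial])]
  have hconst : ∀ c : k, IsAffineFn P (algebraMap k K c) := fun c Q _ => Q.2.1 c
  have hsub : ∀ x c, q x → q c → q (x - c) := by
    rintro x c ⟨a, ha, hma⟩ ⟨b, hb, hmb⟩
    have ha' := monomial_mem' P ha (le_max_left a b)
    have hb' := monomial_mem' P hb (le_max_right a b)
    refine ⟨max a b, sub_mem ha' hb', ?_⟩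
    rw [show (⟨monomial (max a b) (x - c), monomial_mem (sub_mem ha' hb')⟩ : R[P]) =
      ⟨monomial (max a b) x, monomial_mem ha'⟩ - ⟨monomial (max a b) c, monomial_mem hb'⟩ from
      Subtype.ext (map_sub _ _ _)]
    exact sub_mem (hpow _ _ _ ha ha' hma) (hpow _ _ _ hb hb' hmb)
  -- the place below `p`, if any
  obtain ⟨Q₀, hQ₀P, hQ₀⟩ : ∃ Q₀ : Option (Place k K), (∀ Q ∈ Q₀, Q ≠ P) ∧
      ∀ s, s ≠ 0 → IsAffineFn P s → (∀ Q ∈ Q₀, Q.1 s = 1) → ¬ q s := by
    by_cases hzero : ∃ s, q s ∧ s ≠ 0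
    swap
    · exact ⟨none, fun _ h => absurd h (by simp), fun s hs _ _ hqs => hzero ⟨s, hqs, hs⟩⟩
    obtain ⟨s, hqs, hs0⟩ := hzero
    have hsA : IsAffineFn P s := by
      obtain ⟨n, h, -⟩ := hqs
      exact isAffineFn_of_mem_L P h
    have hfin : {Q : Place k K | Q ≠ P ∧ Q.1 s < 1}.Finite :=
      (finite_support_ord hK s).subset fun Q hQ => ((val_lt_one_iff Q hs0).mp hQ.2).ne'
    by_contra hnone
    have hex : ∀ Q ∈ hfin.toFinset, ∃ x, IsAffineFn P x ∧ Q.1 x < 1 ∧ ¬ q x := by
      intro Q hQ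
      rw [Set.Finite.mem_toFinset] at hQ
      by_contra hc
      push Not at hc
      refine hnone ⟨some Q, fun _ h => by simp at h; exact h ▸ hQ.1, fun x hx0 hxA hx1 hqx => ?_⟩
      have hx1' : Q.1 x = 1 := hx1 Q rfl
      obtain ⟨c, hc'⟩ := exists_const_near hK Q hx1'.le
      have hc0 : c ≠ 0 := fun h => by rw [h, map_zero, sub_zero, hx1'] at hc'; exact lt_irrefl _ hc'
      have hA : IsAffineFn P (x - algebraMap k K c) := fun R hR =>
        (R.1.map_sub _ _).trans (max_le (hxA R hR) (R.2.1 c))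
      have h3 : q (algebraMap k K c) := by
        have h4 := hsub x (x - algebraMap k K c) hqx (hc _ hA hc')
        rwa [sub_sub_cancel] at h4
      have := hqmul (algebraMap k K c⁻¹) _ (hconst _) h3
      rw [← map_mul, inv_mul_cancel₀ hc0, map_one] at this
      exact hq1 this
    choose x hxA hx1 hxq using hex
    let y : K := ∏ Q : hfin.toFinset, x Q Q.2
    have hyA : IsAffineFn P y := fun R hR => by
      rw [map_prod]; exact Finset.prod_le_one' fun Q _ => hxA _ _ R hR
    have hyq : ¬ q y := by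
      suffices h : ∀ T : Finset hfin.toFinset, ¬ q (∏ Q ∈ T, x Q Q.2) from h _
      intro T
      induction T using Finset.induction_on with
      | empty => simpa using hq1
      | insert a T ha ih =>
        rw [Finset.prod_insert ha]
        intro h
        rcases hqprime _ _ (hxA _ _) (fun R hR => by
          rw [map_prod]; exact Finset.prod_le_one' fun Q _ => hxA _ _ R hR) h with h | h
        · exact hxq _ _ h
        · exact ih h
    obtain ⟨N, hN⟩ : ∃ N : ℕ, ∀ Q ∈ hfin.toFinset, Q.ord s ≤ N :=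
      ⟨∑ Q ∈ hfin.toFinset, (Q.ord s).toNat, fun Q hQ => by
        have h := Finset.single_le_sum (f := fun Q => (Q.ord s).toNat) (fun _ _ => Nat.zero_le _) hQ
        show Q.ord s ≤ _
        have h' : (Q.ord s).toNat ≤ ∑ Q ∈ hfin.toFinset, (Q.ord s).toNat := h
        omega⟩
    have hyN : IsAffineFn P (y ^ N / s) := by
      intro R hR
      rcases (hsA R hR).lt_or_eq with hlt | heq
      · have hmem : R ∈ hfin.toFinset := by rw [Set.Finite.mem_toFinset]; exact ⟨hR, hlt⟩
        have hylt : R.1 y < 1 := by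
          simp only [y, map_prod]
          rw [← Finset.mul_prod_erase _ _ (Finset.mem_univ (⟨R, hmem⟩ : hfin.toFinset))]
          exact lt_of_le_of_lt (mul_le_of_le_one_right' (Finset.prod_le_one' fun Q _ => hxA _ _ R hR)) (hx1 R hmem)
        rw [map_div₀, div_le_one₀ (zero_lt_iff.mpr ((map_ne_zero R.1).mpr hs0)), map_pow,
          val_eq_exp_neg_ord R hs0]
        refine (pow_le_exp_neg hylt N).trans ?_
        rw [exp_le_exp]
        have := hN R hmem
        omega
      · rw [map_div₀, heq, div_one, map_pow]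
        exact pow_le_one' (hyA R hR) N
    have h5 := hqmul _ _ hyN hqs
    rw [div_mul_cancel₀ _ hs0] at h5
    refine hyq ?_
    clear hN hyN
    induction N with
    | zero => exact absurd (by simpa using h5) hq1
    | succ N ih =>
      rw [pow_succ] at h5
      rcases hqprime _ _ (fun R hR => by rw [map_pow]; exact pow_le_one' (hyA R hR) N) hyA h5 with h | h
      · exact ih h
      · exact h
  -- the bigger regular ring
  let O : ValuationSubring K := Q₀.elim ⊤ fun Q => Q.O
  have hO : ∀ x : K, x ∈ O ↔ ∀ Q ∈ Q₀, Q.1 x ≤ 1 := fun x => by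
    cases Q₀ with
    | none => simp [O]
    | some Q => simp [O, mem_O]
  have : IsPrincipalIdealRing O := by
    cases Q₀ with
    | none =>
      have e : IsField (⊤ : ValuationSubring K) :=
        { exists_pair_ne := ⟨0, 1, zero_ne_one⟩
          mul_comm := mul_comm
          mul_inv_cancel := fun {a} ha => ⟨⟨(a : K)⁻¹, trivial⟩,
            Subtype.ext (mul_inv_cancel₀ (fun h => ha (Subtype.ext h)))⟩ }
      let _ := e.toField
      exact (inferInstance : IsPrincipalIdealRing (⊤ : ValuationSubring K))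
    | some Q => exact isPrincipalIdealRing_placeRing Q
  have hcoeff : ∀ (r : R[P]) (n : ℕ), (r : K[X]).coeff n ∈ O := fun r n => (hO _).mpr fun Q hQ =>
    isAffineFn_of_mem_L P (mem_sectRing_iff.mp r.2 n) Q (hQ₀P Q hQ)
  have hmap : ∀ (g : K[X]) (h), (g.toSubring O.toSubring h).map O.toSubring.subtype = g := fun g h =>
    Polynomial.ext fun n => by rw [coeff_map]; exact coeff_toSubring' g O.toSubring h
  have hsubset : ∀ r : R[P], ↑(r : K[X]).coeffs ⊆ (O.toSubring : Set K) := fun r => by
    intro x hx; obtain ⟨n, -, rfl⟩ := Polynomial.mem_coeffs_iff.mp hx; exact hcoeff r n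
  let ι : R[P] →+* Polynomial O :=
    { toFun := fun r => (r : K[X]).toSubring O.toSubring (hsubset r)
      map_one' := Polynomial.map_injective O.toSubring.subtype Subtype.val_injective (by simp [hmap])
      map_mul' := fun a c => Polynomial.map_injective O.toSubring.subtype Subtype.val_injective
        ((hmap _ _).trans ((congrArg₂ (· * ·) (hmap _ _) (hmap _ _)).symm.trans (Polynomial.map_mul _).symm))
      map_zero' := Polynomial.map_injective O.toSubring.subtype Subtype.val_injective (by simp [hmap])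
      map_add' := fun a c => Polynomial.map_injective O.toSubring.subtype Subtype.val_injective
        ((hmap _ _).trans ((congrArg₂ (· + ·) (hmap _ _) (hmap _ _)).symm.trans (Polynomial.map_add _).symm)) }
  have hι : ∀ r : R[P], (ι r).map O.toSubring.subtype = (r : K[X]) := fun r => hmap _ (hsubset r)
  let M : Submonoid R[P] :=
    { carrier := {r | ∃ (n : ℕ) (s : K), (r : K[X]) = monomial n s ∧ s ≠ 0 ∧ ∀ Q ∈ Q₀, Q.1 s = 1}
      one_mem' := ⟨0, 1, by simp, one_ne_zero, fun Q _ => map_one _⟩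
      mul_mem' := by
        rintro a c ⟨n, s, ha, hs0, hs⟩ ⟨m, r, hc, hr0, hr⟩
        exact ⟨n + m, s * r, by rw [Subalgebra.coe_mul, ha, hc, monomial_mul_monomial],
          mul_ne_zero hs0 hr0, fun Q hQ => by rw [map_mul, hs Q hQ, hr Q hQ, one_mul]⟩ }
  refine gorenstein_of_dense ι (fun a c h => Subtype.ext (by rw [← hι a, h, hι])) M ?_ ?_ p ?_
  · rintro m ⟨n, s, hm, hs0, -⟩ rfl
    exact hs0 (by simpa using (congrArg (fun f : K[X] => f.coeff n) hm).symm)
  · intro F
    let f : K[X] := F.map O.toSubring.subtype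
    obtain ⟨s, hs0, hs1, hsA, hsf⟩ := exists_mult hK P (f.support.image f.coeff) Q₀ fun Q hQ =>
      ⟨hQ₀P Q hQ, fun z hz => by
        obtain ⟨i, -, rfl⟩ := Finset.mem_image.mp hz
        exact (hO _).mp (by rw [coeff_map]; exact (F.coeff i).2) Q hQ⟩
    obtain ⟨a, ha⟩ := exists_mem_L P hsA
    choose N hN using fun i : f.support =>
      exists_mem_L P (hsf _ (Finset.mem_image_of_mem _ i.2))
    let M₀ : ℕ := a + ∑ i, N i
    have hs' : s ∈ L (Finsupp.single P (M₀ : ℤ)) := monomial_mem' P ha (Nat.le_add_right _ _)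
    have hr : monomial M₀ s * f ∈ R[P] := by
      refine mem_sectRing_iff.mpr fun m => ?_
      rw [← C_mul_X_pow_eq_monomial, mul_assoc, coeff_C_mul, coeff_X_pow_mul']
      split_ifs with h
      · by_cases hi : m - M₀ ∈ f.support
        · exact monomial_mem' P (hN ⟨_, hi⟩) (le_trans (Finset.single_le_sum (fun _ _ => Nat.zero_le _)
            (Finset.mem_univ (⟨m - M₀, hi⟩ : f.support))) (by omega))
        · rw [notMem_support_iff.mp hi, mul_zero]; exact zero_mem _
      · rw [mul_zero]; exact zero_mem _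
    refine ⟨⟨monomial M₀ s, monomial_mem hs'⟩, ⟨M₀, s, rfl, hs0, hs1⟩, ⟨_, hr⟩, ?_⟩
    apply Polynomial.map_injective O.toSubring.subtype Subtype.val_injective
    rw [hι, Polynomial.map_mul, hι]
  · rintro r ⟨n, s, hr, hs0, hs1⟩ hmem
    have hsL : s ∈ L (Finsupp.single P (n : ℤ)) := by
      have := mem_sectRing_iff.mp r.2 n
      rwa [hr, coeff_monomial_same] at this
    refine hQ₀ s hs0 (isAffineFn_of_mem_L P hsL) hs1 ⟨n, hsL, ?_⟩
    rwa [show (⟨monomial n s, monomial_mem hsL⟩ : R[P]) = r from Subtype.ext hr.symm]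

omit hs₀ hΦ in
theorem isGorensteinRing_iff (hg : 1 ≤ genus k K) :
    _root_.LocCoh.IsGorensteinRing ↥R[P] ↔ IsSymmetric (poleOrders P) := by
  obtain ⟨s, -, hs⟩ := exists_uniformizer P
  obtain ⟨Φ, hΦ⟩ := exists_reduction hK P hs
  have h1L : (1 : K) ∈ L (Finsupp.single P ((1 : ℕ) : ℤ)) :=
    L_mono (D := (0 : Divisor k K)) (fun Q => by simp [Finsupp.single_apply]; split_ifs <;> omega)
      (by simp [mem_L])
  let t : R[P] := ⟨monomial 1 (1 : K), monomial_mem h1L⟩
  have ht : (t : K[X]) = X := monomial_one_one_eq_X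
  have ht0 : t ≠ 0 := fun h => X_ne_zero (R := K) (by rw [← ht, h]; rfl)
  have hfin := finiteType_sectRing hK P hs hΦ hg t ht
  have hN : IsNoetherianRing ↥R[P] := Algebra.FiniteType.isNoetherianRing k _
  let f : R[P] →+* Φ.range := Φ.rangeRestrict.toRingHom
  have hker : RingHom.ker f = Ideal.span {t} := by
    rw [← ker_eq hK P hs hΦ hg t one_ne_zero (by simp [ht])]
    ext x
    simp [f, RingHom.mem_ker, Subtype.ext_iff]
  have hsurj : Function.Surjective f := Φ.rangeRestrict_surjective
  have hB := fun q : k[X] => mem_range_iff hK P hs hΦ (q := q)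
  have h0 := zero_mem_poleOrders hK P
  have hadd : ∀ a ∈ poleOrders P, ∀ c ∈ poleOrders P, a + c ∈ poleOrders P :=
    fun a ha c hc => add_mem_poleOrders hK P ha hc
  have hc := fun n (hn : 2 * genus k K ≤ n) => mem_poleOrders_of_two_genus_le hK P hn
  constructor
  · intro hG
    have hp0 : (RingHom.ker (aug Φ.range)).IsPrime := RingHom.ker_isPrime _
    let p : Ideal R[P] := (RingHom.ker (aug Φ.range)).comap f
    have htp : t ∈ p := by
      have h : t ∈ RingHom.ker f := by rw [hker]; exact Ideal.mem_span_singleton_self t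
      rw [RingHom.mem_ker] at h
      change f t ∈ RingHom.ker (aug Φ.range)
      rw [h]; exact zero_mem _
    obtain ⟨q, hq, hqp, hiff⟩ := gorenstein_atPrime_quotient f hsurj t ht0 hker p htp
    exact (gorenstein_vertex_iff Φ.range hB h0 hadd hc q (Ideal.comap_injective_of_surjective f hsurj hqp)).mp
      (hiff.mp (hG.isGorensteinLocalRing_localization p))
  · intro hsym
    refine { hN with isGorensteinLocalRing_localization := fun p hp => ?_ }
    by_cases htp : t ∈ p
    · obtain ⟨q, hq, -, hiff⟩ := gorenstein_atPrime_quotient f hsurj t ht0 hker p htp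
      refine hiff.mpr ?_
      by_cases hv : q = RingHom.ker (aug Φ.range)
      · exact (gorenstein_vertex_iff Φ.range hB h0 hadd hc q hv).mpr hsym
      · exact gorenstein_off_vertex Φ.range hB hc q hv
    · exact gorenstein_off_t hK P t ht p htp

end Groth.Agent.GrSectLib
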